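import Cfsg.Agent.H734.K6.RowB

/-!
# S4876: `PSL_n(q)`, `2 d ≤ n < 3 d`, `3 ≤ d`, `p²` does not divide `q ^ d - 1` (helper734)
-/

set_option autoImplicit false
set_option linter.unusedSectionVars false

open Cfsg Module

namespace Cfsg.Agent.H734.K6

open Cfsg.Agent.H734.KB Cfsg.Agent.H61.K6
open Cfsg.Agent.ClassicalGeometry.AutPSL.Root
open Cfsg.Agent.H200.LinFix

universe u

section field

variable {F : Type} [Field F] [Finite F] {L : Type} [Field L] [Finite L] [Algebra F L] [FiniteDimensional F L] {d p : ℕ}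
  [Fact p.Prime]

/-- an element of order `p` generates the field -/
theorem adjoin_eq_top (hL : finrank F L = d) (hd : Ordd p (Nat.card F) d) {w : Lˣ} (hw : orderOf w = p) :
    IntermediateField.adjoin F {(w : L)} = ⊤ := by
  set E := IntermediateField.adjoin F {(w : L)} with hE
  have hwE : (w : L) ∈ E := IntermediateField.mem_adjoin_simple_self F (w : L)
  have h1 : Nat.card E = Nat.card F ^ finrank F E := Module.natCard_eq_pow_finrank
  have h2 : p ∣ Nat.card F ^ finrank F E - 1 := by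
    have h3 : (⟨(w : L), hwE⟩ : E) ^ (Nat.card E - 1) = 1 := by
      have := Fintype.ofFinite E
      rw [Nat.card_eq_fintype_card]
      refine FiniteField.pow_card_sub_one_eq_one _ fun h => w.ne_zero ?_
      exact congrArg Subtype.val h
    have h4 : (w : L) ^ (Nat.card E - 1) = 1 := congrArg Subtype.val h3
    have h5 : w ^ (Nat.card E - 1) = 1 := by
      apply Units.ext
      rw [Units.val_pow_eq_pow_val, h4, Units.val_one]
    rw [← h1, ← hw]
    exact orderOf_dvd_of_pow_eq_one h5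
  have h3 : d ∣ finrank F E := hd _ h2
  have h4 : 0 < finrank F E := finrank_pos
  have h5 := Nat.le_of_dvd h4 h3
  rw [← IntermediateField.toSubalgebra_inj, IntermediateField.top_toSubalgebra]
  apply Subalgebra.toSubmodule_injective
  rw [Algebra.top_toSubmodule]
  apply Submodule.eq_top_of_finrank_eq
  refine le_antisymm (Submodule.finrank_le _) ?_
  rw [hL]
  exact h5

/-- maps commuting with `w` are multiplications -/
theorem eq_mul_of_comm (hL : finrank F L = d) (hd : Ordd p (Nat.card F) d) {w : Lˣ} (hw : orderOf w = p) {γ : L →ₗ[F] L}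
    (h : ∀ x, γ ((w : L) * x) = (w : L) * γ x) : ∀ x, γ x = γ 1 * x := by
  let S : Subalgebra F L :=
    { carrier := {y | ∀ x, γ (y * x) = y * γ x}
      mul_mem' := fun {y z} hy hz x => by rw [mul_assoc, hy, hz, mul_assoc]
      add_mem' := fun {y z} hy hz x => by rw [add_mul, map_add, hy, hz, add_mul]
      algebraMap_mem' := fun c x => by rw [← Algebra.smul_def, map_smul, Algebra.smul_def] }
  have h1 : Algebra.adjoin F {(w : L)} ≤ S := Algebra.adjoin_le (by
    rintro x rfl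
    exact h)
  have h2 : Algebra.adjoin F {(w : L)} = ⊤ := by
    rw [← IntermediateField.adjoin_simple_toSubalgebra_of_isAlgebraic (Algebra.IsAlgebraic.isAlgebraic (w : L)),
      adjoin_eq_top hL hd hw, IntermediateField.top_toSubalgebra]
  intro x
  have h3 : x ∈ S := h1 (by rw [h2]; trivial)
  have h4 := h3 1
  rw [mul_one, mul_comm] at h4
  exact h4

end field

section ker

variable {F : Type} [Field F] [Finite F] {L : Type} [Field L] [Finite L] [Algebra F L] [FiniteDimensional F L]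
  {d p r : ℕ} [Fact p.Prime]

/-- `C(u)` modulo `⟨u⟩` acts faithfully on the fixed space -/
theorem mem_of_fix (hL : finrank F L = d) (hd : Ordd p (Nat.card F) d) {w : Lˣ} (hw : orderOf w = p)
    (hx : ¬ p ^ 2 ∣ Nat.card F ^ d - 1) {g : W F L 2 r ≃ₗ[F] W F L 2 r}
    (hc : g * dgH F L ![w, 1] = dgH F L ![w, 1] * g)
    (hfix : ∀ v : W F L 2 r, dgH F L ![w, 1] v = v → g v = v) {s : ℕ} (hg : g ^ p ^ s = 1) :
    ∃ i : ℕ, g = dgH F L ![w, 1] ^ i := by
  classical
  have hp : p.Prime := Fact.out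
  have hw1 : (w : L) - 1 ≠ 0 := by
    intro h
    have h1 : w = 1 := Units.ext (sub_eq_zero.1 h)
    rw [h1, orderOf_one] at hw
    exact hp.one_lt.ne hw
  set D : W F L 2 r ≃ₗ[F] W F L 2 r := dgH F L ![w, 1] with hD
  have hDa : ∀ v : W F L 2 r, D v = (![(w : L) * v.1 0, v.1 1], v.2) := by
    intro v
    rw [hD, dgH_apply]
    refine Prod.ext (funext fun j => ?_) rfl
    fin_cases j
    · rfl
    · change ((1 : Lˣ) : L) * v.1 1 = v.1 1
      rw [Units.val_one, one_mul]
  have hcomm : ∀ v, g (D v) = D (g v) := fun v => congrArg (fun f : W F L 2 r ≃ₗ[F] W F L 2 r => f v) hc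
  let ι : L →ₗ[F] W F L 2 r := (LinearMap.inl F (Fin 2 → L) (Fin r → F)).comp (LinearMap.single F (fun _ => L) 0)
  have hι : ∀ x, ι x = (![x, 0], 0) := by
    intro x
    refine Prod.ext (funext fun j => ?_) rfl
    fin_cases j
    · change (Pi.single 0 x : Fin 2 → L) 0 = x
      rw [Pi.single_eq_same]
    · change (Pi.single 0 x : Fin 2 → L) 1 = 0
      rw [Pi.single_eq_of_ne (by decide)]
  let π₀ : W F L 2 r →ₗ[F] L := (LinearMap.proj 0).comp (LinearMap.fst F (Fin 2 → L) (Fin r → F))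
  have hπ : ∀ v, π₀ v = v.1 0 := fun _ => rfl
  let γ : L →ₗ[F] L := π₀.comp ((g : W F L 2 r →ₗ[F] W F L 2 r).comp ι)
  have hγ : ∀ x, γ x = (g (ι x)).1 0 := fun _ => rfl
  have hDι : ∀ x, D (ι x) = ι ((w : L) * x) := by
    intro x
    rw [hDa, hι, hι]
    rfl
  -- `g` preserves the image of `ι`
  have himg : ∀ x, g (ι x) = ι (γ x) := by
    intro x
    obtain ⟨y, rfl⟩ : ∃ y, ((w : L) - 1) * y = x := ⟨((w : L) - 1)⁻¹ * x, by rw [← mul_assoc, mul_inv_cancel₀ hw1, one_mul]⟩
    have h1 : ι (((w : L) - 1) * y) = D (ι y) - ι y := by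
      rw [hDι, sub_mul, one_mul, map_sub]
    have h2 : g (ι (((w : L) - 1) * y)) = D (g (ι y)) - g (ι y) := by
      rw [h1, map_sub, hcomm]
    have h3 : ∀ v, D v - v = ι (((w : L) - 1) * v.1 0) := by
      intro v
      rw [hDa, hι]
      refine Prod.ext (funext fun j => ?_) ?_
      · fin_cases j
        · change (w : L) * v.1 0 - v.1 0 = ((w : L) - 1) * v.1 0
          ring
        · change v.1 1 - v.1 1 = 0
          exact sub_self _
      · change v.2 - v.2 = 0
        exact sub_self _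
    rw [hγ, h2, h3]
    congr 1
  have hγw : ∀ x, γ ((w : L) * x) = (w : L) * γ x := by
    intro x
    rw [hγ, ← hDι, hcomm, hDa]
    rfl
  have hmul := eq_mul_of_comm hL hd hw hγw
  have hμ : γ 1 ≠ 0 := by
    intro h
    have h1 : g (ι 1) = 0 := by rw [himg, h, map_zero]
    have h2 : ι 1 = 0 := by
      apply g.injective
      rw [h1, map_zero]
    rw [hι] at h2
    exact one_ne_zero (congrFun (congrArg Prod.fst h2) 0)
  let μ : Lˣ := Units.mk0 (γ 1) hμ
  have hgμ : g = dgH F L ![μ, 1] := by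
    refine LinearEquiv.ext fun v => ?_
    have h1 : v = ι (v.1 0) + (![0, v.1 1], v.2) := by
      rw [hι]
      refine Prod.ext (funext fun j => ?_) ?_
      · fin_cases j
        · change v.1 0 = v.1 0 + 0
          rw [add_zero]
        · change v.1 1 = 0 + v.1 1
          rw [zero_add]
      · change v.2 = 0 + v.2
        rw [zero_add]
    have h2 : g (![0, v.1 1], v.2) = (![0, v.1 1], v.2) := by
      apply hfix
      rw [hDa]
      refine Prod.ext (funext fun j => ?_) rfl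
      fin_cases j
      · change (w : L) * 0 = 0
        exact mul_zero _
      · rfl
    have h3 : g v = ι (γ (v.1 0)) + (![0, v.1 1], v.2) := by
      conv_lhs => rw [h1]
      rw [map_add, himg, h2]
    rw [h3, dgH_apply, hι, hmul]
    refine Prod.ext (funext fun j => ?_) ?_
    · fin_cases j
      · change γ 1 * v.1 0 + 0 = γ 1 * v.1 0
        rw [add_zero]
      · change 0 + v.1 1 = ((1 : Lˣ) : L) * v.1 1
        rw [zero_add, Units.val_one, one_mul]
    · change 0 + v.2 = v.2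
      rw [zero_add]
  -- the order of `μ`
  have hμs : μ ^ p ^ s = 1 := by
    rw [hgμ, ← map_pow, ← map_one (dgH F L)] at hg
    have h1 := congrFun (dgH_injective hg) 0
    exact h1
  have hμp : μ ^ p = 1 := by
    obtain ⟨t, -, ht⟩ := (Nat.dvd_prime_pow hp).1 (orderOf_dvd_of_pow_eq_one hμs)
    have h1 : orderOf μ ∣ Nat.card F ^ d - 1 := by
      have h2 : Nat.card Lˣ = Nat.card F ^ d - 1 := by
        rw [Nat.card_units, Module.natCard_eq_pow_finrank (K := F), hL]
      rw [← h2]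
      exact orderOf_dvd_natCard _
    have h2 : t ≤ 1 := by
      by_contra hcon
      exact hx ((pow_dvd_pow p (by omega : 2 ≤ t)).trans (ht ▸ h1))
    apply orderOf_dvd_iff_pow_eq_one.1
    rw [ht]
    exact pow_dvd_pow_iff hp.ne_zero hp.not_isUnit |>.2 h2 |>.trans (by rw [pow_one])
  have hprim : IsPrimitiveRoot (w : L) p := by
    rw [← hw]
    exact IsPrimitiveRoot.coe_units_iff.2 (IsPrimitiveRoot.orderOf w)
  obtain ⟨i, -, hi⟩ := hprim.eq_pow_of_pow_eq_one (ξ := (μ : L)) (by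
    rw [← Units.val_pow_eq_pow_val, hμp, Units.val_one])
  refine ⟨i, ?_⟩
  rw [hgμ, hD, ← map_pow]
  congr 1
  funext j
  fin_cases j
  · change μ = w ^ i
    apply Units.ext
    rw [Units.val_pow_eq_pow_val, hi]
  · change 1 = (1 : Lˣ) ^ i
    rw [one_pow]

end ker

section grp

/-- lifting a `p`-group through an epimorphism -/
theorem exists_lift_pgroup {G H : Type*} [Group G] [Finite G] [Group H] {p : ℕ} [Fact p.Prime] (f : G →* H)
    (hf : Function.Surjective f) {R : Subgroup H} (hR : IsPGroup p R) :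
    ∃ T : Subgroup G, IsPGroup p T ∧ (∀ t ∈ T, f t ∈ R) ∧ ∀ x ∈ R, ∃ t ∈ T, f t = x := by
  obtain ⟨P⟩ : Nonempty (Sylow p (R.comap f)) := inferInstance
  have hs : Function.Surjective (f.subgroupComap R) := by
    intro x
    obtain ⟨g, hg⟩ := hf x
    exact ⟨⟨g, by rw [Subgroup.mem_comap, hg]; exact x.2⟩, Subtype.ext hg⟩
  refine ⟨(P : Subgroup (R.comap f)).map (R.comap f).subtype, P.2.map _, ?_, ?_⟩
  · rintro _ ⟨g, -, rfl⟩
    exact g.2
  · intro x hx
    have h1 : ((P.mapSurjective hs : Sylow p R) : Subgroup R) = ⊤ := by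
      refine ((P.mapSurjective hs).is_maximal' (Q := ⊤) ?_ le_top).symm
      exact hR.of_equiv Subgroup.topEquiv.symm
    have h2 : (⟨x, hx⟩ : R) ∈ ((P.mapSurjective hs : Sylow p R) : Subgroup R) := by rw [h1]; trivial
    rw [Sylow.coe_mapSurjective] at h2
    obtain ⟨g, hg, hgx⟩ := h2
    exact ⟨g, ⟨g, hg, rfl⟩, congrArg Subtype.val hgx⟩

end grp

section main

variable {F : Type} [Field F] [Finite F] {L : Type} [Field L] [Finite L] [Algebra F L] [FiniteDimensional F L]
  {d p r n : ℕ} [Fact p.Prime]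

theorem pow_vec {w : Lˣ} (hw : orderOf w = p) : (![w, 1] : Fin 2 → Lˣ) ^ p ^ 1 = 1 := by
  have hwp : w ^ p ^ 1 = 1 := by rw [pow_one, ← hw, pow_orderOf_eq_one]
  funext j
  fin_cases j
  · exact hwp
  · exact one_pow _

theorem cyc_quot (hL : finrank F L = d) (hd : Ordd p (Nat.card F) d) {w : Lˣ} (hw : orderOf w = p)
    (hx : ¬ p ^ 2 ∣ Nat.card F ^ d - 1) (hpF : (p : F) ≠ 0) (hq : ¬ p ∣ Nat.card F - 1)
    (hV : finrank F (W F L 2 r) = n) (hn : 0 < n) (hlt : r < d)
    (R : Subgroup (Matrix.ProjectiveSpecialLinearGroup (Fin n) F)) (hR : IsPGroup p R)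
    (hRu : ∀ x ∈ R, x * elt hV (coprime_pow hq 1) ![w, 1] (pow_vec hw) = elt hV (coprime_pow hq 1) ![w, 1] (pow_vec hw) * x) :
    ∃ g ∈ R, ∀ x ∈ R, ∃ m : ℤ, x * g ^ m ∈ Subgroup.zpowers (elt hV (coprime_pow hq 1) ![w, 1] (pow_vec hw)) := by
  classical
  have hp : p.Prime := Fact.out
  have hw1 : w ≠ 1 := by
    rintro rfl
    rw [orderOf_one] at hw
    exact hp.one_lt.ne hw
  have hcop := coprime_pow (p := p) hq 1
  set u := elt hV (coprime_pow hq 1) ![w, 1] (pow_vec hw) with hu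
  let D : ↥(SLs F (W F L 2 r)) := ⟨dgH F L ![w, 1], mem_dg hcop (pow_vec hw)⟩
  let U : Matrix.SpecialLinearGroup (Fin n) F := (slE hV).symm D
  have huU : u = pr U := rfl
  have hDp : D ^ p ^ 1 = 1 := sl_pow hcop (pow_vec hw)
  have hUp : U ^ p ^ 1 = 1 := by
    change ((slE hV).symm D) ^ p ^ 1 = 1
    rw [← map_pow, hDp, map_one]
  obtain ⟨T, hT, hTR, hTl⟩ := exists_lift_pgroup (pr : Matrix.SpecialLinearGroup (Fin n) F →* _)
    (QuotientGroup.mk'_surjective _) hR
  have hTU : ∀ t ∈ T, t * U = U * t := by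
    intro t ht
    have h1 : pr (t * U * t⁻¹ * U⁻¹) = 1 := by
      rw [map_mul, map_mul, map_mul, ← huU, hRu _ (hTR t ht), map_inv, map_inv, ← huU, mul_inv_cancel_right, mul_inv_cancel]
    have h2 : t * U * t⁻¹ * U⁻¹ ∈ Subgroup.center (Matrix.SpecialLinearGroup (Fin n) F) :=
      (QuotientGroup.eq_one_iff _).1 h1
    have h3 : (t * U * t⁻¹ * U⁻¹) ^ p ^ 1 = 1 := by
      have h4 : Commute (t * U * t⁻¹ * U⁻¹) U := (Subgroup.mem_center_iff.1 h2 U).symm
      have h5 := h4.mul_pow (p ^ 1)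
      rw [inv_mul_cancel_right, hUp, mul_one] at h5
      rw [← h5, conj_pow, hUp, mul_one, mul_inv_cancel]
    have h4 := eq_one_of_pr hn hcop h3 h1
    rw [mul_inv_eq_one, mul_inv_eq_iff_eq_mul] at h4
    exact h4
  have hcD : ∀ t : T, (slE hV) (t : Matrix.SpecialLinearGroup (Fin n) F) ∈ Subgroup.centralizer ({D} : Set ↥(SLs F (W F L 2 r))) := by
    intro t
    rw [Subgroup.mem_centralizer_singleton_iff]
    have h1 := congrArg (slE hV) (hTU t t.2)
    rw [map_mul, map_mul] at h1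
    have h2 : slE hV U = D := (slE hV).apply_symm_apply D
    rwa [h2] at h1
  let τ : T →* ↥(Subgroup.centralizer ({D} : Set ↥(SLs F (W F L 2 r)))) :=
    ((slE hV).toMonoidHom.comp T.subtype).codRestrict _ hcD
  let ψ : T →* (Module.End F ↥(K ((D : W F L 2 r ≃ₗ[F] W F L 2 r) : Module.End F (W F L 2 r))))ˣ := (resU D).comp τ
  have hDa : ∀ v : W F L 2 r, (D : W F L 2 r ≃ₗ[F] W F L 2 r) v = v → v.1 0 = 0 := by
    intro v hv
    have h1 := congrFun (congrArg Prod.fst hv) 0
    change (w : L) * v.1 0 = v.1 0 at h1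
    by_contra h0
    apply hw1
    have h2 : (w : L) * v.1 0 = 1 * v.1 0 := by rw [h1, one_mul]
    exact Units.ext (mul_right_cancel₀ h0 h2)
  have hK : finrank F ↥(K ((D : W F L 2 r ≃ₗ[F] W F L 2 r) : Module.End F (W F L 2 r))) < 2 * d := by
    have h1 : finrank F (L × (Fin r → F)) = d + r := by
      rw [Module.finrank_prod, hL, Module.finrank_fin_fun]
    let f : ↥(K ((D : W F L 2 r ≃ₗ[F] W F L 2 r) : Module.End F (W F L 2 r))) →ₗ[F] (L × (Fin r → F)) :=
      (LinearMap.prodMap (LinearMap.proj 1) LinearMap.id).comp (Submodule.subtype _)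
    have hfa : ∀ v, f v = ((v : W F L 2 r).1 1, (v : W F L 2 r).2) := fun _ => rfl
    have hf : Function.Injective f := by
      rw [injective_iff_map_eq_zero]
      intro v hv
      rw [hfa] at hv
      have h2 := hDa v.1 (mem_K.1 v.2)
      apply Subtype.ext
      have h3 : (v : W F L 2 r).2 = 0 := congrArg Prod.snd hv
      have h4 : (v : W F L 2 r).1 1 = 0 := congrArg Prod.fst hv
      refine Prod.ext (funext fun j => ?_) h3
      fin_cases j
      · exact h2
      · exact h4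
    have h2 := LinearMap.finrank_le_finrank_of_injective hf
    rw [h1] at h2
    omega
  have hcyc : IsCyclic ψ.range := by
    have hfE : Finite (Module.End F ↥(K ((D : W F L 2 r ≃ₗ[F] W F L 2 r) : Module.End F (W F L 2 r)))) :=
      Finite.of_injective (fun g : Module.End F ↥(K ((D : W F L 2 r ≃ₗ[F] W F L 2 r) : Module.End F (W F L 2 r))) => (g : _ → _))
        DFunLike.coe_injective
    have hfU : Finite (Module.End F ↥(K ((D : W F L 2 r ≃ₗ[F] W F L 2 r) : Module.End F (W F L 2 r))))ˣ :=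
      Finite.of_injective _ Units.val_injective
    refine isCyclic_of (p := p) (V := ↥(K ((D : W F L 2 r ≃ₗ[F] W F L 2 r) : Module.End F (W F L 2 r))))
      (hT.of_surjective ψ.rangeRestrict ψ.rangeRestrict_surjective)
      ((Units.coeHom _).comp ψ.range.subtype) ?_ hd hpF hK
    exact Units.val_injective.comp Subtype.val_injective
  obtain ⟨⟨_, t₀, rfl⟩, hgen⟩ := hcyc.exists_generator
  refine ⟨pr (t₀ : Matrix.SpecialLinearGroup (Fin n) F), hTR _ t₀.2, fun x hx' => ?_⟩
  obtain ⟨t, ht, rfl⟩ := hTl x hx'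
  obtain ⟨m, hm⟩ := hgen ⟨ψ ⟨t, ht⟩, ⟨_, rfl⟩⟩
  have hm' : ψ t₀ ^ m = ψ ⟨t, ht⟩ := congrArg Subtype.val hm
  let h : T := ⟨t, ht⟩ * t₀ ^ (-m)
  have hh : ψ h = 1 := by
    change ψ (⟨t, ht⟩ * t₀ ^ (-m)) = 1
    rw [map_mul, map_zpow, zpow_neg, hm', mul_inv_cancel]
  let g : W F L 2 r ≃ₗ[F] W F L 2 r := ((slE hV) (h : Matrix.SpecialLinearGroup (Fin n) F) : ↥(SLs F (W F L 2 r)))
  have hg1 : g * dgH F L ![w, 1] = dgH F L ![w, 1] * g := by
    have h1 := Subgroup.mem_centralizer_singleton_iff.1 (hcD h)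
    exact congrArg Subtype.val h1
  have hg2 : ∀ v : W F L 2 r, dgH F L ![w, 1] v = v → g v = v := by
    intro v hv
    have h1 : resE D (τ h) = 1 := by
      rw [← resU_val]
      exact congrArg Units.val hh
    have h2 := congrArg (fun f : Module.End F ↥(K ((D : W F L 2 r ≃ₗ[F] W F L 2 r) : Module.End F (W F L 2 r))) =>
      ((f ⟨v, mem_K.2 hv⟩ : _) : W F L 2 r)) h1
    exact h2
  obtain ⟨s, hs⟩ := hT h
  have hg3 : g ^ p ^ s = 1 := by
    have h1 : ((h : Matrix.SpecialLinearGroup (Fin n) F)) ^ p ^ s = 1 := congrArg Subtype.val hs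
    have h2 := congrArg (fun y => (((slE hV) y : ↥(SLs F (W F L 2 r))) : W F L 2 r ≃ₗ[F] W F L 2 r)) h1
    simp only [map_pow, map_one] at h2
    exact h2
  obtain ⟨i, hi⟩ := mem_of_fix hL hd hw hx hg1 hg2 hg3
  refine ⟨-m, i, ?_⟩
  change u ^ (i : ℤ) = pr t * (pr (t₀ : Matrix.SpecialLinearGroup (Fin n) F)) ^ (-m)
  have h1 : (h : Matrix.SpecialLinearGroup (Fin n) F) = U ^ i := by
    apply (slE hV).injective
    rw [map_pow]
    have h2 : slE hV U = D := (slE hV).apply_symm_apply D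
    rw [h2]
    exact Subtype.ext hi
  have h2 : (h : Matrix.SpecialLinearGroup (Fin n) F) = t * (t₀ : Matrix.SpecialLinearGroup (Fin n) F) ^ (-m) := rfl
  rw [zpow_natCast, huU, ← map_pow, ← h1, h2, map_mul, map_zpow]

end main

section wt

variable {F : Type} [Field F] [Finite F] {L : Type} [Field L] [Finite L] [Algebra F L] [FiniteDimensional F L]
  {a r n : ℕ}

theorem dg_comm (k k' : Fin a → Lˣ) : (dgH F L k : W F L a r ≃ₗ[F] W F L a r) * dgH F L k' = dgH F L k' * dgH F L k := by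
  rw [← map_mul, mul_comm, map_mul]

theorem elt_comm (hV : finrank F (W F L a r) = n) {N : ℕ} (hN : N.Coprime (Nat.card F - 1)) {k k' : Fin a → Lˣ}
    (hk : k ^ N = 1) (hk' : k' ^ N = 1) : elt hV hN k hk * elt hV hN k' hk' = elt hV hN k' hk' * elt hV hN k hk := by
  unfold elt
  rw [← map_mul, ← map_mul, ← map_mul, ← map_mul]
  congr 2
  exact Subtype.ext (dg_comm _ _)

theorem elt_mul (hV : finrank F (W F L a r) = n) {N : ℕ} (hN : N.Coprime (Nat.card F - 1)) {k k' : Fin a → Lˣ}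
    (hk : k ^ N = 1) (hk' : k' ^ N = 1) (hkk : (k * k') ^ N = 1) :
    elt hV hN (k * k') hkk = elt hV hN k hk * elt hV hN k' hk' := by
  unfold elt
  rw [← map_mul, ← map_mul]
  congr 2
  apply Subtype.ext
  exact map_mul (dgH F L) k k'

theorem elt_pow (hV : finrank F (W F L a r) = n) {N : ℕ} (hN : N.Coprime (Nat.card F - 1)) {k : Fin a → Lˣ}
    (hk : k ^ N = 1) (m : ℕ) (hkk : (k ^ m) ^ N = 1) :
    elt hV hN (k ^ m) hkk = elt hV hN k hk ^ m := by
  unfold elt
  rw [← map_pow, ← map_pow]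
  congr 2
  apply Subtype.ext
  exact map_pow (dgH F L) k m

theorem eq_of_elt (hV : finrank F (W F L a r) = n) (hn : 0 < n) {N : ℕ} (hN : N.Coprime (Nat.card F - 1)) {k : Fin a → Lˣ}
    (hk : k ^ N = 1) (h : elt hV hN k hk = 1) : k = 1 := by
  unfold elt at h
  have h1 := eq_one_of_pr hn hN (by rw [← map_pow, sl_pow hN hk, map_one]) h
  rw [← map_one (slE hV).symm] at h1
  have h2 := congrArg Subtype.val ((slE hV).symm.injective h1)
  apply dgH_injective (F := F) (L := L) (r := r)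
  rw [map_one]
  exact h2

theorem elt_pow_N (hV : finrank F (W F L a r) = n) {N : ℕ} (hN : N.Coprime (Nat.card F - 1)) {k : Fin a → Lˣ}
    (hk : k ^ N = 1) : elt hV hN k hk ^ N = 1 := by
  unfold elt
  rw [← map_pow, ← map_pow, sl_pow hN hk, map_one, map_one]

theorem pow_of_pow_one {G : Type*} [Monoid G] {x : G} {p : ℕ} (h : x ^ p ^ 1 = 1) : x ^ p = 1 := by
  rwa [pow_one] at h

/-- the Frobenius element -/
theorem exists_frob_elt (hV : finrank F (W F L 2 r) = n) : ∃ c : Matrix.ProjectiveSpecialLinearGroup (Fin n) F,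
    ∀ {N : ℕ} (hN : N.Coprime (Nat.card F - 1)) {k k' : Fin 2 → Lˣ} (hk : k ^ N = 1) (hk' : k' ^ N = 1),
      k' 0 = k 0 → k' 1 = k 1 ^ Nat.card F → c * elt hV hN k hk = elt hV hN k' hk' * c := by
  obtain ⟨σ, hσ⟩ := exists_frob F L
  obtain ⟨l, hl⟩ := exists_fix (frE 1 σ : W F L 2 r ≃ₗ[F] W F L 2 r) 0
  have hcm : frE 1 σ * dgH F L (Pi.mulSingle 0 l) ∈ SLs F (W F L 2 r) := mem_SLs.2 hl
  refine ⟨pr ((slE hV).symm ⟨_, hcm⟩), fun {N} hN {k k'} hk hk' h0 h1 => ?_⟩
  have h2 : Function.update k 1 (Units.map (σ : L →* L) (k 1)) = k' := by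
    funext j
    fin_cases j
    · exact h0.symm
    · refine Eq.trans ?_ h1.symm
      change Units.map (σ : L →* L) (k 1) = (k 1) ^ Nat.card F
      apply Units.ext
      rw [Units.val_pow_eq_pow_val]
      exact hσ _
  unfold elt
  rw [← map_mul, ← map_mul, ← map_mul, ← map_mul]
  congr 2
  apply Subtype.ext
  change frE 1 σ * dgH F L (Pi.mulSingle 0 l) * dgH F L k =
    dgH F L k' * (frE 1 σ * dgH F L (Pi.mulSingle 0 l))
  rw [mul_assoc, dg_comm, ← mul_assoc, frE_dgH, h2, mul_assoc]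

end wt

section wtcyc

variable {F : Type} [Field F] [Finite F] {L : Type} [Field L] [Finite L] [Algebra F L] [FiniteDimensional F L]
  {d p r n : ℕ} [Fact p.Prime]

theorem pow_mod (hd : Ordd p (Nat.card F) d) (hqp : (Nat.card F).Coprime p) {e : ℕ} (he : e ≤ d) (i j : ℕ) (hi : i < e)
    (hj : j < e) (h : Nat.card F ^ i ≡ Nat.card F ^ j [MOD p]) : i = j := by
  have key : ∀ i j : ℕ, i < j → j < e → ¬ Nat.card F ^ i ≡ Nat.card F ^ j [MOD p] := by
    intro i j hij hj h
    have h3 := (Nat.modEq_iff_dvd' (Nat.pow_le_pow_right Nat.card_pos hij.le)).1 h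
    have h4 : Nat.card F ^ j - Nat.card F ^ i = Nat.card F ^ i * (Nat.card F ^ (j - i) - 1) := by
      rw [Nat.mul_sub, mul_one, ← pow_add, Nat.add_sub_cancel' hij.le]
    rw [h4] at h3
    have h5 := (Nat.Coprime.dvd_mul_left (Nat.Coprime.pow_right i hqp.symm)).1 h3
    have h6 := Nat.le_of_dvd (by omega) (hd _ h5)
    omega
  rcases lt_trichotomy i j with h3 | h3 | h3
  · exact absurd h (key i j h3 hj)
  · exact h3
  · exact absurd h.symm (key j i h3 hi)

theorem pow_vec' {w : Lˣ} (hw : orderOf w = p) : (![1, w] : Fin 2 → Lˣ) ^ p ^ 1 = 1 := by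
  have hwp : w ^ p ^ 1 = 1 := by rw [pow_one, ← hw, pow_orderOf_eq_one]
  funext j
  fin_cases j
  · exact one_pow _
  · exact hwp

theorem wt_cyc (hL : finrank F L = d) (hd : Ordd p (Nat.card F) d) {w : Lˣ} (hw : orderOf w = p)
    (hx : ¬ p ^ 2 ∣ Nat.card F ^ d - 1) (hpF : (p : F) ≠ 0) (hq : ¬ p ∣ Nat.card F - 1) (hqp : (Nat.card F).Coprime p)
    (hV : finrank F (W F L 2 r) = n) (hn : 0 < n) (hlt : r < d) :
    WtGe.{u, 0} p (elt hV (coprime_pow hq 1) ![w, 1] (pow_vec hw)) d := by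
  have hp : p.Prime := Fact.out
  have hw1 : w ≠ 1 := by
    rintro rfl
    rw [orderOf_one] at hw
    exact hp.one_lt.ne hw
  have hcop := coprime_pow (p := p) hq 1
  obtain ⟨c, hc⟩ := exists_frob_elt hV
  have hyq : ((![1, w] : Fin 2 → Lˣ) ^ Nat.card F) ^ p ^ 1 = 1 := by
    rw [← pow_mul, mul_comm, pow_mul, pow_vec' hw, one_pow]
  refine wtGe_cyc (y := elt hV hcop ![1, w] (pow_vec' hw)) (c := c) (k := Nat.card F) ?_ ?_ ?_ ?_ ?_ ?_ ?_
    (pow_mod hd hqp le_rfl)
  · exact (el_elt hV hn hq (pow_vec hw) fun h => hw1 (congrFun h 0)).1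
  · intro R hR hRu _
    exact cyc_quot hL hd hw hx hpF hq hV hn hlt R hR hRu
  · exact elt_comm hV hcop _ _
  · exact hc hcop (pow_vec hw) (pow_vec hw) rfl (one_pow _).symm
  · exact pow_of_pow_one (elt_pow_N hV hcop (pow_vec' hw))
  · intro hm
    obtain ⟨m, hm⟩ := (mem_powers_iff_mem_zpowers.2 hm)
    have h0 : (elt hV hcop ![w, 1] (pow_vec hw)) ^ m = elt hV hcop ![1, w] (pow_vec' hw) := hm
    have hkm : ((![w, 1] : Fin 2 → Lˣ) ^ m) ^ p ^ 1 = 1 := by
      rw [← pow_mul, mul_comm, pow_mul, pow_vec hw, one_pow]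
    have hkm' : (((![w, 1] : Fin 2 → Lˣ) ^ m) ^ (p - 1)) ^ p ^ 1 = 1 := by
      rw [← pow_mul, mul_comm, pow_mul, hkm, one_pow]
    have h3 : elt hV hcop (![1, w] * ((![w, 1] : Fin 2 → Lˣ) ^ m) ^ (p - 1))
        (by rw [mul_pow, pow_vec' hw, hkm', one_mul]) = 1 := by
      rw [elt_mul hV hcop (pow_vec' hw) hkm' _, elt_pow hV hcop hkm (p - 1) hkm', elt_pow hV hcop (pow_vec hw) m hkm, h0,
        ← pow_succ', Nat.sub_add_cancel hp.one_lt.le]
      rw [← h0, ← pow_mul, mul_comm, pow_mul]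
      have h4 : elt hV hcop ![w, 1] (pow_vec hw) ^ p = 1 := pow_of_pow_one (elt_pow_N hV hcop (pow_vec hw))
      rw [h4, one_pow]
    have h5 := congrFun (eq_of_elt hV hn hcop _ h3) 1
    change w * ((1 : Lˣ) ^ m) ^ (p - 1) = 1 at h5
    rw [one_pow, one_pow, mul_one] at h5
    exact hw1 h5
  · rw [mul_inv_eq_iff_eq_mul, ← elt_pow hV hcop (pow_vec' hw) (Nat.card F) hyq]
    exact hc hcop (pow_vec' hw) hyq (one_pow _) rfl

end wtcyc

section row

variable {F : Type} [Field F] [Finite F] {n d : ℕ} {p : ℕ} [Fact p.Prime]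

/-- **`2 d ≤ n < 3 d`, `3 ≤ d`, `p² ∤ q ^ d - 1`** -/
theorem krow_cyc (hd3 : 3 ≤ d) (hn : 2 * d ≤ n) (hn3 : n < 3 * d) (hp2 : p ≠ 2) (hq : ¬ p ∣ Nat.card F - 1)
    (hd : Ordd p (Nat.card F) d) (hpF : (p : F) ≠ 0) (hqp : (Nat.card F).Coprime p)
    (hx : p ∣ Nat.card F ^ d - 1) (hx2 : ¬ p ^ 2 ∣ Nat.card F ^ d - 1) :
    KRow.{u, 0} p (Matrix.ProjectiveSpecialLinearGroup (Fin n) F) := by
  classical
  obtain ⟨L, _, _, _, hL⟩ := H477.HC.exists_L F d (by omega)
  have hfd : FiniteDimensional F L := FiniteDimensional.of_finrank_pos (by omega)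
  obtain ⟨w, hw⟩ := exists_w L hL (by omega) hx
  have hp : p.Prime := Fact.out
  have hw1 : w ≠ 1 := by
    rintro rfl
    rw [orderOf_one] at hw
    exact hp.one_lt.ne hw
  have hwp : w ^ p ^ 1 = 1 := by rw [pow_one, ← hw, pow_orderOf_eq_one]
  obtain ⟨r, hr⟩ : ∃ r, n = 2 * d + r := ⟨n - 2 * d, by omega⟩
  have hV : finrank F (W F L 2 r) = n := by
    rw [Module.finrank_prod, Module.finrank_fin_fun, Module.finrank_pi_fintype]
    simp only [hL, Finset.sum_const, Finset.card_univ, Fintype.card_fin, smul_eq_mul]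
    omega
  have hcop := coprime_pow (p := p) hq 1
  have hka : (![w, w] : Fin 2 → Lˣ) ^ p ^ 1 = 1 := by
    funext j
    fin_cases j
    · exact hwp
    · exact hwp
  let k : Fin 2 → (Fin 2 → Lˣ) := ![![w, 1], ![w, w]]
  have hk : ∀ i, (k i) ^ p ^ 1 = 1 := by
    intro i
    fin_cases i
    · exact pow_vec hw
    · exact hka
  have h0 : ∀ i, k i 0 = w := by intro i; fin_cases i <;> rfl
  have hfix0 : Nat.card {j : Fin 2 // k 0 j = 1} = 1 := by
    rw [Nat.card_eq_fintype_card, Fintype.card_subtype]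
    have : (Finset.univ.filter fun j : Fin 2 => k 0 j = 1) = {1} := by
      ext j
      fin_cases j <;> simp [k, hw1]
    rw [this]; rfl
  have hfix1 : Nat.card {j : Fin 2 // k 1 j = 1} = 0 := by
    rw [Nat.card_eq_fintype_card, Fintype.card_subtype]
    have : (Finset.univ.filter fun j : Fin 2 => k 1 j = 1) = ∅ := by
      ext j
      fin_cases j <;> simp [k, hw1]
    rw [this]; rfl
  have h01 : (0 : Fin 2) ≠ 1 := by decide
  refine krow_of_fin (m := 2) (not_compl_sw hV (by omega) hq hp2 hw h01) (fun i => elt hV hcop (k i) (hk i)) ![3, 2] ?_ ?_ ?_ ?_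
  · intro i
    refine el_elt hV (by omega) hq (hk i) fun h => hw1 ?_
    rw [← h0 i, h]
    rfl
  · intro i j α hα
    have h1 := card_eq_of_aut hV (by omega) hcop (hk i) (hk j) α hα
    fin_cases i <;> fin_cases j
    · rfl
    · exact absurd (hfix0.symm.trans (h1.trans hfix1)) (by decide)
    · exact absurd (hfix1.symm.trans (h1.trans hfix0)) (by decide)
    · rfl
  · intro i
    fin_cases i
    · exact (wt_cyc hL hd hw hx2 hpF hq hqp hV (by omega) (by omega)).mono hd3
    · exact wt_sw hV (by omega) hq hp2 hw _ h01 rfl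
  · decide

end row

end Cfsg.Agent.H734.K6
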