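import Cfsg.Agent.H404.K6.CritE
import Cfsg.Agent.H835.Five
import Cfsg.Agent.H820.ElFi24
import Cfsg.Agent.S1688

/-!
# S4876, the rows `Fi22`, `Fi23`, `Fi24'` for `p = 5` (helper734)

In `Fi22` the centralizer of an element `u` of order five contains `S₅` (helper835); this goes up to `2.Fi22 ≤ Fi23`
and `Fi23 ≤ Fi24'`. Criterion E of helper404.
-/

set_option autoImplicit false

namespace Cfsg.Agent.H734.K6.Fi

open Cfsg Subgroup Cfsg.Agent.H61.K6 Cfsg.Agent.H404.K6 Cfsg.Agent.H835.SymFive Cfsg.Agent.SporRec.Co3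

universe u v

/-- the data go up to a central extension by a group of order two -/
theorem inert_lift {X Y : Type*} [Group X] [Group Y] (π : Y →* X) (hπ : Function.Surjective π)
    (hc : π.ker ≤ center Y) (h2 : Nat.card π.ker = 2) {x y h : X} {r n : ℕ} (H : Inert 5 x y h r n)
    (hY : ¬ 5 ^ 3 ∣ Nat.card Y) : ∃ x' y' h' : Y, Inert 5 x' y' h' r n := by
  have hk : ∀ z : Y, π z = 1 → z ^ 2 = 1 := fun z hz => by
    have h3 : (⟨z, hz⟩ : π.ker) ^ 2 = 1 := by rw [← h2]; exact pow_card_eq_one'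
    exact congrArg Subtype.val h3
  have hcz : ∀ z w : Y, π z = 1 → z * w = w * z := fun z w hz => (mem_center_iff.1 (hc hz) w).symm
  have key : ∀ z : Y, π z = 1 → z ^ 5 = 1 → z = 1 := fun z hz h5 => by
    have h3 := hk z hz
    have h4 : z ^ 5 = z ^ 2 * z ^ 2 * z := by group
    rw [h4, h3, one_mul, one_mul] at h5
    exact h5
  have lift : ∀ a : X, a ^ 5 = 1 → ∃ b : Y, π b = a ∧ b ^ 5 = 1 := fun a ha => by
    obtain ⟨b, rfl⟩ := hπ a
    refine ⟨b ^ 6, ?_, ?_⟩
    · rw [map_pow]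
      calc π b ^ 6 = π b ^ 5 * π b := pow_succ _ _
        _ = π b := by rw [ha, one_mul]
    · have h3 := hk (b ^ 5) (by rw [map_pow, ha])
      calc (b ^ 6) ^ 5 = ((b ^ 5) ^ 2) ^ 3 := by rw [← pow_mul, ← pow_mul, ← pow_mul]
        _ = 1 := by rw [h3, one_pow]
  have hx5 : x ^ 5 = 1 := by rw [← H.ox]; exact pow_orderOf_eq_one x
  have hy5 : y ^ 5 = 1 := by rw [← H.oy]; exact pow_orderOf_eq_one y
  have h5f : Fact (Nat.Prime 5) := ⟨by norm_num⟩
  have hx1 : x ≠ 1 := fun h1 => by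
    have := H.ox
    rw [h1, orderOf_one] at this
    norm_num at this
  have hy1 : y ≠ 1 := fun h1 => by
    have := H.oy
    rw [h1, orderOf_one] at this
    norm_num at this
  obtain ⟨a, rfl, ha⟩ := lift x hx5
  obtain ⟨b, rfl, hb⟩ := lift y hy5
  obtain ⟨c, rfl⟩ := hπ h
  -- `g a g⁻¹ = w` as soon as the images agree and both fifth powers are trivial
  have eq_of : ∀ s t : Y, s ^ 5 = 1 → t ^ 5 = 1 → π s = π t → s = t := fun s t hs ht hst => by
    have h3 : π (s * t⁻¹) = 1 := by rw [map_mul, map_inv, hst, mul_inv_cancel]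
    have h4 : Commute (s * t⁻¹) t := hcz _ _ h3
    have h5 : (s * t⁻¹) ^ 5 = 1 := by
      have h6 : s = s * t⁻¹ * t := by group
      have h7 : s ^ 5 = (s * t⁻¹) ^ 5 * t ^ 5 := by
        conv_lhs => rw [h6]
        exact h4.mul_pow 5
      rw [hs, ht, mul_one] at h7
      exact h7.symm
    have h6 := key _ h3 h5
    rwa [mul_inv_eq_one] at h6
  have cpow : ∀ g s : Y, s ^ 5 = 1 → (g * s * g⁻¹) ^ 5 = 1 := fun g s hs => by
    rw [conj_pow, hs, mul_one, mul_inv_cancel]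
  refine ⟨a, b, c, hY, orderOf_eq_prime ha fun h1 => hx1 (by rw [h1, map_one]),
    orderOf_eq_prime hb fun h1 => hy1 (by rw [h1, map_one]), ?_, ?_, ?_, ?_, H.ord⟩
  · have h3 : a * b * a⁻¹ = b := eq_of _ _ (cpow a b hb) hb (by
      rw [map_mul, map_mul, map_inv, H.comm.eq]; group)
    exact mul_inv_eq_iff_eq_mul.1 h3
  · rintro ⟨k, hk⟩
    apply H.nmem
    exact ⟨k, by rw [← hk]; exact (map_zpow π a k).symm⟩
  · have h3 : c * a * c⁻¹ = a := eq_of _ _ (cpow c a ha) ha (by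
      rw [map_mul, map_mul, map_inv, H.hx.eq]; group)
    exact mul_inv_eq_iff_eq_mul.1 h3
  · exact eq_of _ _ (cpow c b hb) (by rw [← pow_mul, mul_comm, pow_mul, hb, one_pow])
      (by rw [map_mul, map_mul, map_inv, H.hy, map_pow])

theorem ord_two : ∀ i, 0 < i → i < 4 → ¬ 2 ^ i ≡ 1 [MOD 5] := by
  intro i h0 h4
  interval_cases i <;> decide

theorem inert_fi22 : ∃ x y h : Spor.Fi22, Inert 5 x y h 2 4 := by
  have I := H836.inv_of_iso (MulEquiv.refl Spor.Fi22)
  have hcard := I.ctx.card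
  have hfin := I.ctx.finite
  have h5f : Fact (Nat.Prime 5) := ⟨by norm_num⟩
  obtain ⟨x, hx⟩ := exists_prime_orderOf_dvd_card' (G := Spor.Fi22) 5 (by rw [hcard]; norm_num)
  have hx5 : x ^ 5 = 1 := by rw [← hx]; exact pow_orderOf_eq_one x
  have hx1 : x ≠ 1 := fun h1 => by
    rw [h1, orderOf_one] at hx
    norm_num at hx
  obtain ⟨f, hf, hS, hcl⟩ := H835.Five.exists_sym I.ctx hx5 hx1
  obtain ⟨τ, hτ⟩ := exists_double
  have hle : f.range ≤ centralizer ({x} : Set Spor.Fi22) := by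
    rw [← hcl, closure_le]
    intro t ht
    exact mem_centralizer_singleton_iff.2 ht.2.symm
  have hcen : ∀ q : P5, f q * x = x * f q := fun q => mem_centralizer_singleton_iff.1 (hle ⟨q, rfl⟩)
  refine ⟨x, f cyc, f τ, ?_, hx, by rw [orderOf_injective f hf, orderOf_cyc], (hcen cyc).symm, ?_, hcen τ, ?_, ord_two⟩
  · rw [hcard]
    norm_num
  · rintro ⟨k, hk⟩
    have hk' : x ^ k = f cyc := hk
    have h1 : f τ * f cyc = f cyc * f τ := by
      rw [← hk']
      exact ((show Commute (f τ) x from hcen τ).zpow_right k).eq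
    rw [← map_mul, ← map_mul] at h1
    have h2 := hf h1
    have h3 : cyc ^ 2 = cyc := by rw [← hτ, h2]; group
    have h4 : cyc = 1 := by
      rw [pow_two] at h3
      exact mul_eq_left.1 h3
    exact cyc_ne h4
  · rw [← map_inv, ← map_mul, ← map_mul, hτ, map_pow]

theorem inert_fi23 : ∃ x y h : Spor.Fi23, Inert 5 x y h 2 4 := by
  have hcard : Nat.card Spor.Fi23 = 4089470473293004800 := S1697.result.2
  obtain ⟨h1, ⟨e⟩, -⟩ := S1688.result
  obtain ⟨x, y, h, H⟩ := inert_fi22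
  set L := ((Subgroup.closure ({Spor.Fi23.a, Spor.Fi23.b, Spor.Fi23.c, Spor.Fi23.d, Spor.Fi23.e, Spor.Fi23.f,
    Spor.Fi23.g, Spor.Fi23.h, Spor.Fi23.i} : Set (FreeGroup Spor.Fi23.Gen))).map (PresentedGroup.mk
    (Spor.coxRelators Spor.Fi23.edges ∪ {r | r ∈ Spor.Fi23.extra}))) with hL
  have hnd : ¬ 5 ^ 3 ∣ Nat.card Spor.Fi23 := by rw [hcard]; norm_num
  let π : L →* Spor.Fi22 := e.toMonoidHom.comp (QuotientGroup.mk' (center L))
  have hker : π.ker = center L := by
    ext z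
    rw [MonoidHom.mem_ker]
    change e (QuotientGroup.mk' (center L) z) = 1 ↔ _
    rw [EmbeddingLike.map_eq_one_iff]
    exact QuotientGroup.eq_one_iff z
  obtain ⟨x', y', h', H'⟩ := inert_lift π (e.surjective.comp (QuotientGroup.mk'_surjective _)) hker.le
    (by rw [hker]; exact h1) H fun h5 => hnd (h5.trans (Subgroup.card_subgroup_dvd_card L))
  exact ⟨x', y', h', H'.map L.subtype L.subtype_injective hnd⟩

theorem inert_fi24 : ∃ x y h : Spor.Fi24', Inert 5 x y h 2 4 := by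
  have hcard : Nat.card Spor.Fi24' = 1255205709190661721292800 := S1698.result.2
  obtain ⟨f, hf⟩ := H820.ElFi24.exists_hom
  obtain ⟨x, y, h, H⟩ := inert_fi23
  exact ⟨f x, f y, f h, H.map f hf (by rw [hcard]; norm_num)⟩

theorem krow_of_iso {A X : Type*} [Group A] [Group X] (e : X ≃* A) (h : ∃ x y h : A, Inert 5 x y h 2 4) :
    KRow 5 X := by
  obtain ⟨x, y, h, H⟩ := h
  exact KRow.of_inertial (H.map e.symm.toMonoidHom e.symm.injective (by
    rw [Nat.card_congr e.toEquiv]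
    exact H.card)) (Or.inl ⟨rfl, le_rfl⟩)

/-- **S4876, the row `Fi22`, `p = 5`** -/
theorem row_fi22 {X : Type v} [Group X] (h : Spor.IsoFi22 X) : KRow.{u, v} 5 X := by
  obtain ⟨e⟩ := h
  exact krow_of_iso e inert_fi22

/-- **S4876, the row `Fi23`, `p = 5`** -/
theorem row_fi23 {X : Type v} [Group X] (h : Spor.IsoFi23 X) : KRow.{u, v} 5 X := by
  obtain ⟨e⟩ := h
  exact krow_of_iso e inert_fi23

/-- **S4876, the row `Fi24'`, `p = 5`** -/
theorem row_fi24 {X : Type v} [Group X] (h : Spor.IsoFi24' X) : KRow.{u, v} 5 X := by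
  obtain ⟨e⟩ := h
  exact krow_of_iso e inert_fi24

end Cfsg.Agent.H734.K6.Fi
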