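import Mathlib
import Cfsg.Agent.H966.PSLAut

/-!
# S4876: invariants of elements of `PSL_n(F)` under automorphisms (helper734)

* `aut_cases` : `α (pr x) = pr y` : `y` is a scalar multiple of a conjugate of `σ(x)` or `σ(x⁻¹)ᵀ`;
* `EV x k` : `x` has an eigenvalue of geometric multiplicity `k`; `ev_iff`;
* canonical lifts (`x ^ N = 1`, `N` prime to `|F| - 1`): `lift_rank`, `rank (x - 1)`; `dep_of_aut`, the degree of the minimal
  polynomial (`Dep`).
-/

set_option autoImplicit false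
set_option linter.unusedSectionVars false

namespace Cfsg.Agent.H734.K6

open Matrix Cfsg
open Cfsg.Agent.H966.PSLAut
open Cfsg.Agent.ClassicalGeometry.AutPSL.Root
open Cfsg.Agent.ClassicalGeometry.AutPSL.Auto

section rank

variable {F : Type*} [Field F] {ι : Type*} [Fintype ι] [DecidableEq ι]

theorem rank_map_equiv (σ : F ≃+* F) (M : Matrix ι ι F) : (M.map σ).rank = M.rank := by
  obtain ⟨V, U, e, hV, hU, h⟩ := exists_rank_normal_form M
  have h1 : (V.map σ) * (M.map σ) * (U.map σ) = V * M * U := by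
    rw [← Matrix.map_mul, ← Matrix.map_mul, h]
    ext i j
    rw [Matrix.map_apply, Matrix.submatrix_apply]
    rcases e i with a | a <;> rcases e j with b | b
    · rw [fromBlocks_apply₁₁, Matrix.one_apply]
      split_ifs <;> simp
    · rw [fromBlocks_apply₁₂]; simp
    · rw [fromBlocks_apply₂₁]; simp
    · rw [fromBlocks_apply₂₂]; simp
  have hV' : IsUnit (V.map σ).det := by
    have := ((isUnit_iff_isUnit_det _).1 hV).map (σ : F →+* F)
    rwa [RingHom.map_det] at this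
  have hU' : IsUnit (U.map σ).det := by
    have := ((isUnit_iff_isUnit_det _).1 hU).map (σ : F →+* F)
    rwa [RingHom.map_det] at this
  rw [← rank_mul_eq_right_of_isUnit_det (V.map σ) (M.map σ) hV', ← rank_mul_eq_left_of_isUnit_det (U.map σ) _ hU', h1,
    rank_mul_eq_left_of_isUnit_det U _ ((isUnit_iff_isUnit_det _).1 hU),
    rank_mul_eq_right_of_isUnit_det V M ((isUnit_iff_isUnit_det _).1 hV)]

theorem rank_conj (A : GL ι F) (M : Matrix ι ι F) :
    ((A : Matrix ι ι F) * M * ((A⁻¹ : GL ι F) : Matrix ι ι F)).rank = M.rank := by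
  rw [rank_mul_eq_left_of_isUnit_det _ _ ((isUnit_iff_isUnit_det _).1 (A⁻¹).isUnit),
    rank_mul_eq_right_of_isUnit_det _ _ ((isUnit_iff_isUnit_det _).1 A.isUnit)]

theorem rank_smul' {c : F} (hc : c ≠ 0) (M : Matrix ι ι F) : (c • M).rank = M.rank :=
  rank_smul_of_mem_nonZeroDivisors M (mem_nonZeroDivisors_of_ne_zero hc)

end rank

section psl

variable {F : Type*} [Field F] {n : ℕ}

theorem aut_cases [Finite F] (hn : 2 ≤ n) (α : MulAut (Matrix.ProjectiveSpecialLinearGroup (Fin n) F))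
    {x y : Matrix.SpecialLinearGroup (Fin n) F} (h : α (pr x) = pr y) :
    ∃ (A : GL (Fin n) F) (σ : F ≃+* F) (c : F), c ≠ 0 ∧
      ((y : Matrix (Fin n) (Fin n) F) = c • ((A : Matrix (Fin n) (Fin n) F) * (x : Matrix (Fin n) (Fin n) F).map σ *
        ((A⁻¹ : GL (Fin n) F) : Matrix (Fin n) (Fin n) F)) ∨
       (y : Matrix (Fin n) (Fin n) F) = c • ((A : Matrix (Fin n) (Fin n) F) *
        (((x⁻¹ : Matrix.SpecialLinearGroup (Fin n) F) : Matrix (Fin n) (Fin n) F)ᵀ).map σ *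
        ((A⁻¹ : GL (Fin n) F) : Matrix (Fin n) (Fin n) F))) := by
  have hne : ∀ {c : F} {B : Matrix (Fin n) (Fin n) F}, (y : Matrix (Fin n) (Fin n) F) = c • B → c ≠ 0 := by
    rintro c B hB rfl
    have h1 := y.2
    have h2 : Nonempty (Fin n) := ⟨⟨0, by omega⟩⟩
    rw [hB, zero_smul, det_zero] at h1
    exact zero_ne_one h1
  obtain ⟨A, σ, h1 | h1⟩ := exists_lift hn α
  · rw [h1, lift_pr] at h
    obtain ⟨c, hc⟩ := exists_smul_of_pr_eq h
    exact ⟨A, σ, c, hne hc, Or.inl hc⟩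
  · rw [h1, lift_pr] at h
    obtain ⟨c, hc⟩ := exists_smul_of_pr_eq h
    exact ⟨A, σ, c, hne hc, Or.inr hc⟩

/-- `x` has an eigenvalue of geometric multiplicity `k` -/
def EV (x : Matrix (Fin n) (Fin n) F) (k : ℕ) : Prop := ∃ t : F, t ≠ 0 ∧ (x - t • 1).rank + k = n

theorem conj_sub (A : GL (Fin n) F) (B : Matrix (Fin n) (Fin n) F) (t : F) :
    (A : Matrix (Fin n) (Fin n) F) * B * ((A⁻¹ : GL (Fin n) F) : Matrix (Fin n) (Fin n) F) - t • 1 =
      (A : Matrix (Fin n) (Fin n) F) * (B - t • 1) * ((A⁻¹ : GL (Fin n) F) : Matrix (Fin n) (Fin n) F) := by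
  rw [Matrix.mul_sub, Matrix.sub_mul, Matrix.mul_smul, Matrix.smul_mul, Matrix.mul_one, ← Units.val_mul, mul_inv_cancel,
    Units.val_one]

theorem map_sub_smul (σ : F ≃+* F) (B : Matrix (Fin n) (Fin n) F) (t : F) :
    B.map σ - (σ t) • 1 = (B - t • 1).map σ := by
  ext i j
  simp only [Matrix.sub_apply, Matrix.map_apply, Matrix.smul_apply, smul_eq_mul, map_sub, map_mul, Matrix.one_apply]
  split_ifs <;> simp

theorem ev_of_aut [Finite F] (hn : 2 ≤ n) (α : MulAut (Matrix.ProjectiveSpecialLinearGroup (Fin n) F))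
    {x y : Matrix.SpecialLinearGroup (Fin n) F} (h : α (pr x) = pr y) {k : ℕ}
    (hk : EV (x : Matrix (Fin n) (Fin n) F) k) : EV (y : Matrix (Fin n) (Fin n) F) k := by
  obtain ⟨A, σ, c, hc, h1⟩ := aut_cases hn α h
  obtain ⟨t, ht, hk⟩ := hk
  have key : ∀ (B : Matrix (Fin n) (Fin n) F) (s : F), s ≠ 0 → (B - s • 1).rank = ((x : Matrix (Fin n) (Fin n) F) - t • 1).rank →
      (y : Matrix (Fin n) (Fin n) F) = c • ((A : Matrix (Fin n) (Fin n) F) * B.map σ *
        ((A⁻¹ : GL (Fin n) F) : Matrix (Fin n) (Fin n) F)) → EV (y : Matrix (Fin n) (Fin n) F) k := by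
    intro B s hs hB hy
    refine ⟨c * σ s, mul_ne_zero hc (by simpa using hs), ?_⟩
    have h2 : (y : Matrix (Fin n) (Fin n) F) - (c * σ s) • 1 = c • ((A : Matrix (Fin n) (Fin n) F) * (B - s • 1).map σ *
        ((A⁻¹ : GL (Fin n) F) : Matrix (Fin n) (Fin n) F)) := by
      rw [← map_sub_smul, ← conj_sub, smul_sub, ← hy, smul_smul]
    rw [h2, rank_smul' hc, rank_conj, rank_map_equiv, hB, hk]
  rcases h1 with h1 | h1
  · exact key _ t ht rfl h1
  · refine key _ t⁻¹ (inv_ne_zero ht) ?_ h1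
    have h2 : ((x⁻¹ : Matrix.SpecialLinearGroup (Fin n) F) : Matrix (Fin n) (Fin n) F)ᵀ - t⁻¹ • 1 =
        (((x⁻¹ : Matrix.SpecialLinearGroup (Fin n) F) : Matrix (Fin n) (Fin n) F) - t⁻¹ • 1)ᵀ := by
      rw [transpose_sub, transpose_smul, transpose_one]
    have h3 : ((x⁻¹ : Matrix.SpecialLinearGroup (Fin n) F) : Matrix (Fin n) (Fin n) F) - t⁻¹ • 1 =
        (-t⁻¹) • (((x⁻¹ : Matrix.SpecialLinearGroup (Fin n) F) : Matrix (Fin n) (Fin n) F) *
          ((x : Matrix (Fin n) (Fin n) F) - t • 1)) := by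
      have h4 : (((x⁻¹ : Matrix.SpecialLinearGroup (Fin n) F) : Matrix (Fin n) (Fin n) F) *
          ((x : Matrix (Fin n) (Fin n) F) - t • 1)) = 1 - t • ((x⁻¹ : Matrix.SpecialLinearGroup (Fin n) F) : Matrix (Fin n) (Fin n) F) := by
        rw [Matrix.mul_sub, ← Matrix.SpecialLinearGroup.coe_mul, inv_mul_cancel, Matrix.SpecialLinearGroup.coe_one,
          Matrix.mul_smul, Matrix.mul_one]
      rw [h4, smul_sub, smul_smul, neg_mul, inv_mul_cancel₀ ht, neg_smul, neg_smul, one_smul]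
      abel
    rw [h2, rank_transpose, h3, rank_smul' (neg_ne_zero.2 (inv_ne_zero ht)),
      rank_mul_eq_right_of_isUnit_det _ _ (by rw [(x⁻¹).2]; exact isUnit_one)]

theorem ev_iff [Finite F] (hn : 2 ≤ n) (α : MulAut (Matrix.ProjectiveSpecialLinearGroup (Fin n) F))
    {x y : Matrix.SpecialLinearGroup (Fin n) F} (h : α (pr x) = pr y) (k : ℕ) :
    EV (x : Matrix (Fin n) (Fin n) F) k ↔ EV (y : Matrix (Fin n) (Fin n) F) k :=
  ⟨ev_of_aut hn α h, ev_of_aut hn α⁻¹ (by rw [← h, MulAut.inv_apply_self])⟩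

/-- canonical lifts -/
theorem lift_cases [Finite F] (hn : 2 ≤ n) (α : MulAut (Matrix.ProjectiveSpecialLinearGroup (Fin n) F))
    {x y : Matrix.SpecialLinearGroup (Fin n) F} (h : α (pr x) = pr y) {N : ℕ} (hN : N.Coprime (Nat.card F - 1))
    (hx : x ^ N = 1) (hy : y ^ N = 1) :
    ∃ (A : GL (Fin n) F) (σ : F ≃+* F),
      ((y : Matrix (Fin n) (Fin n) F) = (A : Matrix (Fin n) (Fin n) F) * (x : Matrix (Fin n) (Fin n) F).map σ *
        ((A⁻¹ : GL (Fin n) F) : Matrix (Fin n) (Fin n) F)) ∨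
      ((y : Matrix (Fin n) (Fin n) F) = (A : Matrix (Fin n) (Fin n) F) *
        (((x⁻¹ : Matrix.SpecialLinearGroup (Fin n) F) : Matrix (Fin n) (Fin n) F)ᵀ).map σ *
        ((A⁻¹ : GL (Fin n) F) : Matrix (Fin n) (Fin n) F)) := by
  have := Fintype.ofFinite F
  obtain ⟨A, σ, c, hc, h1⟩ := aut_cases hn α h
  have hc1 : ∀ B : Matrix.SpecialLinearGroup (Fin n) F, B ^ N = 1 →
      (y : Matrix (Fin n) (Fin n) F) = c • ((A : Matrix (Fin n) (Fin n) F) * (B : Matrix (Fin n) (Fin n) F) *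
        ((A⁻¹ : GL (Fin n) F) : Matrix (Fin n) (Fin n) F)) → c = 1 := by
    intro B hB hy2
    have h2 : (y : Matrix (Fin n) (Fin n) F) = c • ((cj A B : Matrix.SpecialLinearGroup (Fin n) F) : Matrix (Fin n) (Fin n) F) := hy2
    have h3 : ((y ^ N : Matrix.SpecialLinearGroup (Fin n) F) : Matrix (Fin n) (Fin n) F) =
        c ^ N • (((cj A B) ^ N : Matrix.SpecialLinearGroup (Fin n) F) : Matrix (Fin n) (Fin n) F) := by
      rw [Matrix.SpecialLinearGroup.coe_pow, h2, smul_pow, ← Matrix.SpecialLinearGroup.coe_pow]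
    rw [hy, ← map_pow, hB, map_one, Matrix.SpecialLinearGroup.coe_one] at h3
    have h4 : c ^ N = 1 := by
      have h5 := congrFun (congrFun h3 ⟨0, by omega⟩) ⟨0, by omega⟩
      rw [Matrix.smul_apply, Matrix.one_apply_eq, smul_eq_mul, mul_one] at h5
      exact h5.symm
    have h5 : c ^ (Nat.card F - 1) = 1 := by
      rw [Nat.card_eq_fintype_card]
      exact FiniteField.pow_card_sub_one_eq_one c hc
    have h6 : orderOf c ∣ 1 := by
      rw [← hN]
      exact Nat.dvd_gcd (orderOf_dvd_of_pow_eq_one h4) (orderOf_dvd_of_pow_eq_one h5)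
    exact orderOf_eq_one_iff.1 (Nat.dvd_one.1 h6)
  refine ⟨A, σ, ?_⟩
  rcases h1 with h1 | h1
  · have h2 := hc1 (fld σ x) (by rw [← map_pow, hx, map_one]) h1
    left
    rwa [h2, one_smul] at h1
  · have h2 := hc1 (fld σ (itr x)) (by rw [← map_pow, ← map_pow, hx, map_one, map_one]) h1
    right
    rwa [h2, one_smul] at h1

/-- the rank of `x - 1` -/
theorem lift_rank [Finite F] (hn : 2 ≤ n) (α : MulAut (Matrix.ProjectiveSpecialLinearGroup (Fin n) F))
    {x y : Matrix.SpecialLinearGroup (Fin n) F} (h : α (pr x) = pr y) {N : ℕ} (hN : N.Coprime (Nat.card F - 1))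
    (hx : x ^ N = 1) (hy : y ^ N = 1) :
    ((y : Matrix (Fin n) (Fin n) F) - 1).rank = ((x : Matrix (Fin n) (Fin n) F) - 1).rank := by
  obtain ⟨A, σ, h1⟩ := lift_cases hn α h hN hx hy
  have key : ∀ B : Matrix (Fin n) (Fin n) F, (y : Matrix (Fin n) (Fin n) F) = (A : Matrix (Fin n) (Fin n) F) * B.map σ *
      ((A⁻¹ : GL (Fin n) F) : Matrix (Fin n) (Fin n) F) → ((y : Matrix (Fin n) (Fin n) F) - 1).rank = (B - 1).rank := by
    intro B hB
    have h3 := conj_sub A (B.map σ) (σ 1)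
    rw [map_sub_smul, map_one, one_smul, ← hB] at h3
    rw [h3, rank_conj, rank_map_equiv]
  rcases h1 with h1 | h1
  · exact key _ h1
  · rw [key _ h1]
    have h2 : ((x⁻¹ : Matrix.SpecialLinearGroup (Fin n) F) : Matrix (Fin n) (Fin n) F)ᵀ - 1 =
        (((x⁻¹ : Matrix.SpecialLinearGroup (Fin n) F) : Matrix (Fin n) (Fin n) F) - 1)ᵀ := by
      rw [transpose_sub, transpose_one]
    have h3 : ((x⁻¹ : Matrix.SpecialLinearGroup (Fin n) F) : Matrix (Fin n) (Fin n) F) - 1 =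
        (-1 : F) • (((x⁻¹ : Matrix.SpecialLinearGroup (Fin n) F) : Matrix (Fin n) (Fin n) F) *
          ((x : Matrix (Fin n) (Fin n) F) - 1)) := by
      rw [Matrix.mul_sub, ← Matrix.SpecialLinearGroup.coe_mul, inv_mul_cancel, Matrix.SpecialLinearGroup.coe_one,
        Matrix.mul_one, neg_smul, one_smul, neg_sub]
    rw [h2, rank_transpose, h3, rank_smul' (neg_ne_zero.2 one_ne_zero),
      rank_mul_eq_right_of_isUnit_det _ _ (by rw [(x⁻¹).2]; exact isUnit_one)]

/-- `1, x, ..., x ^ m` are linearly dependent -/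
def Dep (x : Matrix (Fin n) (Fin n) F) (m : ℕ) : Prop :=
  ∃ c : ℕ → F, (∃ i, i ≤ m ∧ c i ≠ 0) ∧ ∑ i ∈ Finset.range (m + 1), c i • x ^ i = 0

theorem dep_of_aut [Finite F] (hn : 2 ≤ n) (α : MulAut (Matrix.ProjectiveSpecialLinearGroup (Fin n) F))
    {x y : Matrix.SpecialLinearGroup (Fin n) F} (h : α (pr x) = pr y) {N : ℕ} (hN : N.Coprime (Nat.card F - 1))
    (hx : x ^ N = 1) (hy : y ^ N = 1) {m : ℕ} (hd : Dep (x : Matrix (Fin n) (Fin n) F) m) :
    Dep (y : Matrix (Fin n) (Fin n) F) m := by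
  obtain ⟨A, σ, h1⟩ := lift_cases hn α h hN hx hy
  have key : ∀ B : Matrix (Fin n) (Fin n) F, (y : Matrix (Fin n) (Fin n) F) = (A : Matrix (Fin n) (Fin n) F) * B.map σ *
      ((A⁻¹ : GL (Fin n) F) : Matrix (Fin n) (Fin n) F) → Dep B m → Dep (y : Matrix (Fin n) (Fin n) F) m := by
    rintro B hB ⟨c, ⟨i, hi, hci⟩, hc⟩
    refine ⟨fun i => σ (c i), ⟨i, hi, fun h0 => hci (by simpa using h0)⟩, ?_⟩
    have h2 : ∀ i : ℕ, σ (c i) • (y : Matrix (Fin n) (Fin n) F) ^ i = (A : Matrix (Fin n) (Fin n) F) *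
        ((c i • B ^ i).map σ) * ((A⁻¹ : GL (Fin n) F) : Matrix (Fin n) (Fin n) F) := by
      intro i
      have h3 : (c i • B ^ i).map σ = σ (c i) • (B.map σ) ^ i := by
        have h4 : (B.map σ) ^ i = (B ^ i).map σ := by
          have := map_pow (σ : F →+* F).mapMatrix B i
          exact this.symm
        rw [h4]
        ext k l
        rw [Matrix.map_apply, Matrix.smul_apply, Matrix.smul_apply, Matrix.map_apply, smul_eq_mul, smul_eq_mul, map_mul]
      rw [hB, Units.conj_pow, h3, Matrix.mul_smul, Matrix.smul_mul]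
    rw [Finset.sum_congr rfl fun i _ => h2 i, ← Finset.sum_mul, ← Finset.mul_sum]
    have h5 : ∑ i ∈ Finset.range (m + 1), (c i • B ^ i).map σ = 0 := by
      have h6 := map_sum (σ : F →+* F).mapMatrix (fun i => c i • B ^ i) (Finset.range (m + 1))
      rw [hc, map_zero] at h6
      exact h6.symm
    rw [h5, Matrix.mul_zero, Matrix.zero_mul]
  rcases h1 with h1 | h1
  · exact key _ h1 hd
  · refine key _ h1 ?_
    obtain ⟨c, ⟨i, hi, hci⟩, hc⟩ := hd
    refine ⟨fun i => c (m - i), ⟨m - i, Nat.sub_le _ _, by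
      show c (m - (m - i)) ≠ 0
      rwa [Nat.sub_sub_self hi]⟩, ?_⟩
    have h2 : ∀ i ∈ Finset.range (m + 1), c (m - i) • (((x⁻¹ : Matrix.SpecialLinearGroup (Fin n) F) :
        Matrix (Fin n) (Fin n) F)ᵀ) ^ i = ((((x⁻¹ : Matrix.SpecialLinearGroup (Fin n) F) :
        Matrix (Fin n) (Fin n) F)) ^ m * (c (m - i) • (x : Matrix (Fin n) (Fin n) F) ^ (m - i)))ᵀ := by
      intro i hi
      have h3 : i ≤ m := Nat.lt_succ_iff.1 (Finset.mem_range.1 hi)
      have h4 : (x⁻¹) ^ i = (x⁻¹) ^ m * x ^ (m - i) := by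
        rw [inv_pow, inv_pow, eq_inv_mul_iff_mul_eq, ← pow_sub_mul_pow x h3, mul_assoc, mul_inv_cancel, mul_one]
      rw [← transpose_pow, Matrix.mul_smul, transpose_smul, ← Matrix.SpecialLinearGroup.coe_pow,
        ← Matrix.SpecialLinearGroup.coe_pow, ← Matrix.SpecialLinearGroup.coe_pow, ← Matrix.SpecialLinearGroup.coe_mul, h4]
    rw [Finset.sum_congr rfl h2, ← transpose_sum, ← Finset.mul_sum]
    have h4 := Finset.sum_range_reflect (fun i => c i • (x : Matrix (Fin n) (Fin n) F) ^ i) (m + 1)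
    simp only [Nat.add_sub_cancel] at h4
    rw [h4, hc, Matrix.mul_zero, transpose_zero]

end psl

end Cfsg.Agent.H734.K6
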