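import Cfsg.Agent.H61.K6.Base
import Cfsg.Agent.H734.KB.Exp

/-!
# S4876: weights (helper734)

* `not_compl` : `y ^ p = 1`, `c y c⁻¹ = y ^ k ≠ y`: no normal `p`-complement; `wtGe_two_of` : weight 2;
* `wtGe_cyc` : `u` a `p`-element of `X`; every `p`-subgroup of `C_X(u)` has a cyclic image modulo `⟨u⟩`; `y ∈ C_X(u)` of
  order `p`, not in `⟨u⟩`, `c ∈ C_X(u)` with `c y c⁻¹ = y ^ k`, `y ^ (k ^ i)`, `i < e`, different: weight `e`.
-/

set_option autoImplicit false

open Cfsg Subgroup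

namespace Cfsg.Agent.H734.K6

open Cfsg.Agent.H61.K6

universe u v

theorem pow_pow_mod {p k : ℕ} (hp : p.Prime) (m : ℕ) : k ^ p ^ m ≡ k [MOD p] := by
  have := Fact.mk hp
  induction m with
  | zero => rw [pow_zero, pow_one]
  | succ m ih =>
    rw [pow_succ, pow_mul]
    have h1 : (k ^ p ^ m) ^ p ≡ k ^ p ^ m [MOD p] := by
      rw [← ZMod.natCast_eq_natCast_iff, Nat.cast_pow, ZMod.pow_card]
    exact h1.trans ih

/-- conjugation by powers -/
theorem conj_pow_pow {G : Type*} [Group G] {c y : G} {k : ℕ} (h : c * y * c⁻¹ = y ^ k) (m : ℕ) :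
    c ^ m * y * (c ^ m)⁻¹ = y ^ k ^ m := by
  induction m with
  | zero => simp
  | succ m ih =>
    have h1 : c ^ (m + 1) * y * (c ^ (m + 1))⁻¹ = c ^ m * (c * y * c⁻¹) * (c ^ m)⁻¹ := by
      rw [pow_succ, mul_inv_rev]
      group
    rw [h1, h, conj_pow.symm, ih, ← pow_mul, pow_succ]

theorem not_compl {G : Type*} [Group G] [Finite G] {p : ℕ} [Fact p.Prime] {y c : G} {k : ℕ} (hy : y ^ p = 1)
    (h : c * y * c⁻¹ = y ^ k) (hne : c * y ≠ y * c) : ¬ HasNormalPComplement p G := by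
  rintro ⟨P, N, hN, hc⟩
  have hp : p.Prime := Fact.out
  have hcard := hc.card_mul_card
  have hPi := P.card_mul_index
  have hNi := N.card_mul_index
  have hPpos : 0 < Nat.card (P : Subgroup G) := Nat.card_pos
  have hNpos : 0 < Nat.card N := Nat.card_pos
  have hN1 : Nat.card N = (P : Subgroup G).index := by
    apply Nat.eq_of_mul_eq_mul_left hPpos
    rw [mul_comm, hcard, hPi]
  have hN2 : N.index = Nat.card (P : Subgroup G) := by
    apply Nat.eq_of_mul_eq_mul_left hNpos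
    rw [hcard, hNi]
  have hNp : ¬ p ∣ Nat.card N := by rw [hN1]; exact P.not_dvd_index
  have hQ : IsPGroup p (G ⧸ N) := by
    obtain ⟨s, hs⟩ := IsPGroup.iff_card.1 P.2
    exact IsPGroup.of_card (n := s) (by rw [← Subgroup.index_eq_card, hN2, hs])
  have hyN : (y : G ⧸ N) ≠ 1 := by
    intro h1
    have h2 : y ∈ N := (QuotientGroup.eq_one_iff y).1 h1
    have h3 : orderOf (⟨y, h2⟩ : N) ∣ Nat.card N := orderOf_dvd_natCard _
    rw [Subgroup.orderOf_mk] at h3
    rcases (Nat.dvd_prime hp).1 (orderOf_dvd_of_pow_eq_one hy) with h4 | h4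
    · rw [orderOf_eq_one_iff] at h4
      apply hne
      rw [h4, mul_one, one_mul]
    · exact hNp (h4 ▸ h3)
  have hyo : orderOf (y : G ⧸ N) = p := orderOf_eq_prime (by
    rw [← QuotientGroup.mk_pow, hy, QuotientGroup.mk_one]) hyN
  obtain ⟨m, hm⟩ := hQ (c : G ⧸ N)
  have h1 : (c : G ⧸ N) * (y : G ⧸ N) * (c : G ⧸ N)⁻¹ = (y : G ⧸ N) ^ k := by
    rw [← QuotientGroup.mk_pow, ← h]; rfl
  have h2 := conj_pow_pow h1 (p ^ m)
  rw [hm, one_mul, inv_one, mul_one] at h2
  have h3 : (y : G ⧸ N) ^ 1 = (y : G ⧸ N) ^ k := by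
    rw [pow_one]
    refine h2.trans (pow_eq_pow_iff_modEq.2 ?_)
    rw [hyo]
    exact pow_pow_mod hp m
  rw [pow_eq_pow_iff_modEq, hyo] at h3
  apply hne
  have h4 : y ^ k = y := by
    have h5 : y ^ 1 = y ^ k := pow_eq_pow_iff_modEq.2 (h3.of_dvd (orderOf_dvd_of_pow_eq_one hy))
    rw [← h5, pow_one]
  rw [h4] at h
  exact mul_inv_eq_iff_eq_mul.1 h

theorem wtGe_two_of {X : Type v} [Group X] [Finite X] {p : ℕ} [Fact p.Prime] {x y c : X} {k : ℕ} (hxy : y * x = x * y)
    (hxc : c * x = x * c) (hy : y ^ p = 1) (h : c * y * c⁻¹ = y ^ k) (hne : c * y ≠ y * c) : WtGe.{u, v} p x 2 := by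
  refine wtGe_two ?_
  refine not_compl (y := (⟨y, mem_centralizer_singleton_iff.2 hxy⟩ : ↥(centralizer ({x} : Set X))))
    (c := ⟨c, mem_centralizer_singleton_iff.2 hxc⟩) (k := k) (Subtype.ext ?_) (Subtype.ext ?_) fun h1 => hne ?_
  · simpa using hy
  · simpa using h
  · exact congrArg Subtype.val h1

/-- **weight of an element whose centralizer is cyclic-by-`p'` modulo the element** -/
theorem wtGe_cyc {X : Type v} [Group X] [Finite X] {p : ℕ} [Fact p.Prime] {u y c : X} {k e : ℕ}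
    (hu : ∃ s, orderOf u = p ^ s)
    (hcyc : ∀ R : Subgroup X, IsPGroup p R → (∀ x ∈ R, x * u = u * x) → u ∈ R →
      ∃ g ∈ R, ∀ x ∈ R, ∃ m : ℤ, x * g ^ m ∈ zpowers u)
    (hyu : y * u = u * y) (hcu : c * u = u * c) (hy : y ^ p = 1) (hyn : y ∉ zpowers u)
    (h : c * y * c⁻¹ = y ^ k) (he : ∀ i j, i < e → j < e → k ^ i ≡ k ^ j [MOD p] → i = j) : WtGe.{u, v} p u e := by
  classical
  intro M G _ _ K f hS
  have hM := hS.modular
  have hp : p.Prime := Fact.out
  have hKn := hS.normal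
  have hfi : ∀ a b : X, ((f a : K) : G) = ((f b : K) : G) → a = b := fun a b h => f.injective (Subtype.ext h)
  set C := centralizer ({((f u : K) : G)} : Set G) with hC
  have hmemC : ∀ x : X, x * u = u * x → ((f x : K) : G) ∈ C := by
    intro x hx
    rw [hC, mem_centralizer_singleton_iff]
    have h2 := congrArg (fun y => ((f y : K) : G)) hx
    simpa using h2
  let U : C := ⟨f u, hmemC u rfl⟩
  let Y : C := ⟨f y, hmemC y hyu⟩
  let D : C := ⟨f c, hmemC c hcu⟩
  have hUcen : ∀ g : C, g * U = U * g := by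
    intro g
    have h1 := mem_centralizer_singleton_iff.1 g.2
    exact Subtype.ext h1
  have hZn : (zpowers U).Normal := by
    refine ⟨fun a ha g => ?_⟩
    obtain ⟨m, hm⟩ := ha
    have h1 : g * a * g⁻¹ = a := by
      have h2 : Commute g U := hUcen g
      have h3 : Commute g a := by
        have h4 := h2.zpow_right m
        rwa [show U ^ m = a from hm] at h4
      rw [h3.eq, mul_inv_cancel_right]
    rw [h1]
    exact ⟨m, hm⟩
  have h1 := KB.rank_quot_le hM (zpowers U)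
  refine le_trans ?_ h1
  set Q := C ⧸ zpowers U with hQ
  let π : C →* Q := QuotientGroup.mk' (zpowers U)
  have hπ : Function.Surjective π := QuotientGroup.mk'_surjective _
  have hYp : Y ^ p = 1 := by
    apply Subtype.ext
    change ((f y : K) : G) ^ p = 1
    have h2 := congrArg (fun y => ((f y : K) : G)) hy
    simpa using h2
  have hY1 : π Y ≠ 1 := by
    intro h2
    have h3 : Y ∈ zpowers U := (QuotientGroup.eq_one_iff Y).1 h2
    obtain ⟨m, hm⟩ := h3
    apply hyn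
    refine ⟨m, hfi _ _ ?_⟩
    have h4 := congrArg (fun g : C => (g : G)) hm
    change ((f (u ^ m) : K) : G) = _
    rw [map_zpow, Subgroup.coe_zpow]
    simpa using h4
  have hYo : orderOf (π Y) = p := orderOf_eq_prime (by rw [← map_pow, hYp, map_one]) hY1
  have hpg : IsPGroup p (zpowers (π Y)) := IsPGroup.of_card (n := 1) (by rw [Nat.card_zpowers, hYo, pow_one])
  obtain ⟨P, hP⟩ := hpg.exists_le_sylow
  have hZp : IsPGroup p (zpowers U) := by
    obtain ⟨s, hs⟩ := hu
    refine IsPGroup.of_card (n := s) ?_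
    rw [Nat.card_zpowers, ← hs]
    have h2 : orderOf U = orderOf ((f u : K) : G) := by
      rw [← orderOf_injective C.subtype C.subtype_injective U]; rfl
    rw [h2, Subgroup.orderOf_coe, MulEquiv.orderOf_eq]
  -- the preimage of `P`
  have hRp : IsPGroup p ((P : Subgroup Q).comap π) := by
    refine IsPGroup.comap_of_ker_isPGroup P.2 π ?_
    rw [QuotientGroup.ker_mk']
    exact hZp
  have hmemK : ∀ g : C, g ∈ (P : Subgroup Q).comap π → ∃ x : X, ((f x : K) : G) = g := by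
    intro g hg
    have h2 : (g : G) ∈ K := by
      obtain ⟨s, hs⟩ := hRp ⟨g, hg⟩
      have h3 : g ^ p ^ s = 1 := congrArg Subtype.val hs
      have h4 : ((g : G) : G ⧸ K) ^ p ^ s = 1 := by
        rw [← QuotientGroup.mk_pow, ← Subgroup.coe_pow, h3]
        rfl
      have h5 : orderOf ((g : G) : G ⧸ K) ∣ Nat.card (G ⧸ K) := orderOf_dvd_natCard _
      rw [← Subgroup.index_eq_card] at h5
      obtain ⟨t, -, ht⟩ := (Nat.dvd_prime_pow hp).1 (orderOf_dvd_of_pow_eq_one h4)
      rcases Nat.eq_zero_or_pos t with h6 | h6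
      · rw [h6, pow_zero, orderOf_eq_one_iff] at ht
        exact (QuotientGroup.eq_one_iff _).1 ht
      · exfalso
        apply hS.ndvd
        rw [ht] at h5
        exact (dvd_pow_self p h6.ne').trans h5
    exact ⟨f.symm ⟨g, h2⟩, by rw [f.apply_symm_apply]⟩
  let R : Subgroup X := (((P : Subgroup Q).comap π).map C.subtype).comap (K.subtype.comp f.toMonoidHom)
  have hR1 : ∀ x : X, x ∈ R ↔ ∃ g : C, g ∈ (P : Subgroup Q).comap π ∧ (g : G) = ((f x : K) : G) := by
    intro x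
    exact Iff.rfl
  have hRR : IsPGroup p R :=
    IsPGroup.comap_of_injective (hRp.map _) _ (K.subtype_injective.comp f.injective)
  have hRu : ∀ x ∈ R, x * u = u * x := by
    intro x hx
    obtain ⟨g, -, hg⟩ := (hR1 x).1 hx
    apply hfi
    have h2 := congrArg (fun g : C => (g : G)) (hUcen g)
    have h3 : (g : G) * ((f u : K) : G) = ((f u : K) : G) * (g : G) := h2
    rw [hg] at h3
    rw [map_mul, map_mul, Subgroup.coe_mul, Subgroup.coe_mul, h3]
  have huR : u ∈ R := by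
    rw [hR1]
    refine ⟨U, ?_, rfl⟩
    rw [Subgroup.mem_comap]
    have h2 : π U = 1 := (QuotientGroup.eq_one_iff U).2 (mem_zpowers U)
    rw [h2]
    exact one_mem _
  obtain ⟨g₀, hg₀, hg⟩ := hcyc R hRR hRu huR
  obtain ⟨g₁, hg₁, hg₁'⟩ := (hR1 g₀).1 hg₀
  have hPc : IsCyclic P := by
    refine ⟨⟨π g₁, hg₁⟩, fun q => ?_⟩
    obtain ⟨r, hr⟩ := hπ (q : Q)
    have hrP : r ∈ (P : Subgroup Q).comap π := by rw [Subgroup.mem_comap, hr]; exact q.2
    obtain ⟨x, hx⟩ := hmemK r hrP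
    have hxR : x ∈ R := (hR1 x).2 ⟨r, hrP, hx.symm⟩
    obtain ⟨m, j, hj⟩ := hg x hxR
    refine ⟨-m, Subtype.ext ?_⟩
    change (π g₁) ^ (-m) = (q : Q)
    have h2 : r * g₁ ^ m = U ^ j := by
      apply Subtype.ext
      rw [Subgroup.coe_mul, Subgroup.coe_zpow, Subgroup.coe_zpow, hg₁', ← hx]
      change ((f x : K) : G) * ((f g₀ : K) : G) ^ m = ((f u : K) : G) ^ j
      rw [← Subgroup.coe_zpow, ← Subgroup.coe_mul, ← map_zpow, ← map_mul, ← Subgroup.coe_zpow, ← map_zpow]
      exact congrArg (fun y => ((f y : K) : G)) hj.symm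
    have h3 : π r * π g₁ ^ m = 1 := by
      rw [← map_zpow, ← map_mul, h2]
      exact (QuotientGroup.eq_one_iff _).2 ⟨j, rfl⟩
    rw [← hr, zpow_neg]
    exact (eq_inv_of_mul_eq_one_left h3).symm
  have hcom : IsMulCommutative (P : Subgroup Q) := ⟨⟨IsCyclic.commGroup.mul_comm⟩⟩
  have hpQ : p ∣ Nat.card Q := by rw [← hYo]; exact orderOf_dvd_natCard _
  rw [KB.rank_cyclic hM P hPc hpQ]
  refine le_trans ?_ (KB.card_le_relIndex P (hP (mem_zpowers (π Y))))
  have hcon : π D * π Y * (π D)⁻¹ = π Y ^ k := by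
    rw [← map_inv, ← map_mul, ← map_mul, ← map_pow]
    congr 1
    apply Subtype.ext
    have h2 := congrArg (fun y => ((f y : K) : G)) h
    simpa using h2
  have h5 : Nat.card (Fin e) ≤ Nat.card {w : Q // w ∈ zpowers (π Y) ∧ IsConj (π Y) w} := by
    refine Nat.card_le_card_of_injective (fun i : Fin e => (⟨π Y ^ k ^ (i : ℕ), npow_mem_zpowers _ _,
      isConj_iff.2 ⟨π D ^ (i : ℕ), conj_pow_pow hcon i⟩⟩ :
        {w : Q // w ∈ zpowers (π Y) ∧ IsConj (π Y) w})) fun i j hij => ?_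
    have h6 : π Y ^ k ^ (i : ℕ) = π Y ^ k ^ (j : ℕ) := congrArg Subtype.val hij
    rw [pow_eq_pow_iff_modEq, hYo] at h6
    exact Fin.ext (he i j i.2 j.2 h6)
  rwa [Nat.card_eq_fintype_card, Fintype.card_fin] at h5

/-- criterion W for a family -/
theorem krow_of_fin {p : ℕ} {X : Type v} [Group X] [Finite X] (hX : ¬ HasNormalPComplement p X) {m : ℕ} (x : Fin m → X)
    (w : Fin m → ℕ) (hx : ∀ i, El p (x i)) (hinj : ∀ i j, ∀ σ : X ≃* X, σ (x i) = x j → i = j)
    (hw : ∀ i, WtGe.{u, v} p (x i) (w i)) (hn : 5 ≤ ∑ i, w i) : KRow.{u, v} p X := by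
  classical
  have hxi : Function.Injective x := fun i j h => hinj i j (MulEquiv.refl X) h
  refine KRow.of_weights hX (Finset.univ.image x) ?_ ?_ (fun y => if h : ∃ i, x i = y then w h.choose else 0) ?_ ?_
  · intro y hy
    obtain ⟨i, -, rfl⟩ := Finset.mem_image.1 hy
    exact hx i
  · intro y hy z hz σ hσ
    obtain ⟨i, -, rfl⟩ := Finset.mem_image.1 hy
    obtain ⟨j, -, rfl⟩ := Finset.mem_image.1 hz
    rw [hinj i j σ hσ]
  · intro y hy
    obtain ⟨i, -, rfl⟩ := Finset.mem_image.1 hy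
    have h : ∃ j, x j = x i := ⟨i, rfl⟩
    have h1 : h.choose = i := hxi h.choose_spec
    simp only [dif_pos h, h1]
    exact hw i
  · rw [Finset.sum_image fun i _ j _ h => hxi h]
    refine hn.trans (le_of_eq (Finset.sum_congr rfl fun i _ => ?_))
    have h : ∃ j, x j = x i := ⟨i, rfl⟩
    have h1 : h.choose = i := hxi h.choose_spec
    rw [dif_pos h, h1]

end Cfsg.Agent.H734.K6
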