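import Cfsg.Agent.H734.KB.RowPSL
import Cfsg.Agent.H734.K6.PslInv
import Cfsg.Agent.H734.K6.Wt

/-!
# S4876: diagonal elements of `PSL_n(q)`, `p ∣ q - 1` (helper734)
-/

set_option autoImplicit false
set_option linter.unusedSectionVars false

open Cfsg Module

namespace Cfsg.Agent.H734.K6

open Cfsg.Agent.H734.KB Cfsg.Agent.H61.K6
open Cfsg.Agent.ClassicalGeometry.AutPSL.Root

universe u

section sw

variable {F : Type} [Field F] {n : ℕ}

/-- signed exchange of two coordinates -/
def sw {i j : Fin n} (hij : i ≠ j) : Matrix.SpecialLinearGroup (Fin n) F :=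
  ⟨(Equiv.swap i j).permMatrix F * Matrix.diagonal (Function.update 1 i (-1)), by
    rw [Matrix.det_mul, Matrix.det_permutation, Equiv.Perm.sign_swap hij, Matrix.det_diagonal,
      Finset.prod_update_of_mem (Finset.mem_univ i)]
    simp⟩

theorem sw_diag {i j : Fin n} (hij : i ≠ j) (D : Fin n → F) :
    ((sw hij : Matrix.SpecialLinearGroup (Fin n) F) : Matrix (Fin n) (Fin n) F) * Matrix.diagonal D =
      Matrix.diagonal (D ∘ Equiv.swap i j) * (sw hij : Matrix.SpecialLinearGroup (Fin n) F) := by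
  change (Equiv.swap i j).permMatrix F * Matrix.diagonal (Function.update 1 i (-1)) * Matrix.diagonal D =
    Matrix.diagonal (D ∘ Equiv.swap i j) * ((Equiv.swap i j).permMatrix F * Matrix.diagonal (Function.update 1 i (-1)))
  rw [show (Equiv.swap i j).permMatrix F * Matrix.diagonal (Function.update 1 i (-1)) =
    (Matrix.diagonal (Function.update 1 i (-1))).submatrix (Equiv.swap i j) id from PEquiv.toMatrix_toPEquiv_mul _ _]
  ext k l
  rw [Matrix.mul_diagonal, Matrix.diagonal_mul, Matrix.submatrix_apply, id, Matrix.diagonal_apply, Function.comp_apply]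
  split_ifs with h
  · rw [h, mul_comm]
  · rw [zero_mul, mul_zero]

end sw

section

variable {F : Type} [Field F] [Fintype F] {n : ℕ} {p : ℕ} [Fact p.Prime]

theorem zD_mul (D E : Fin n → Fˣ) (h : ∏ j, D j = 1) (h' : ∏ j, E j = 1) (h'' : ∏ j, (D * E) j = 1) :
    zD D h * zD E h' = zD (D * E) h'' := by
  apply Subtype.ext
  change Matrix.diagonal _ * Matrix.diagonal _ = Matrix.diagonal _
  rw [Matrix.diagonal_mul_diagonal]
  rfl

theorem zD_pow' (D : Fin n → Fˣ) (h : ∏ j, D j = 1) {N : ℕ} (hN : ∀ j, D j ^ N = 1) : zD D h ^ N = 1 := by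
  apply Subtype.ext
  have h3 := zD_pow D h N
  rw [h3]
  change _ = (1 : Matrix (Fin n) (Fin n) F)
  rw [← Matrix.diagonal_one]
  congr 1
  funext j
  rw [← Units.val_pow_eq_pow_val, hN, Units.val_one]

/-- equal images in `PSL` -/
theorem scalar_of_pr {D E : Fin n → Fˣ} {h : ∏ j, D j = 1} {h' : ∏ j, E j = 1} (hp : pr (zD D h) = pr (zD E h')) :
    ∃ c : F, ∀ j, (E j : F) = c * D j := by
  obtain ⟨c, hc⟩ := exists_smul_of_pr_eq hp
  refine ⟨c, fun j => ?_⟩
  have h1 := congrFun (congrFun hc j) j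
  rw [zD_val, zD_val, Matrix.smul_apply, Matrix.diagonal_apply_eq, Matrix.diagonal_apply_eq, smul_eq_mul] at h1
  exact h1

theorem el_zD {D : Fin n → Fˣ} (h : ∏ j, D j = 1) {s : ℕ} (hD : ∀ j, D j ^ p ^ s = 1) {i j : Fin n} (hij : D i ≠ D j) :
    El p (pr (zD D h)) := by
  constructor
  · have h1 : (pr (zD D h)) ^ p ^ s = 1 := by rw [← map_pow, zD_pow' D h hD, map_one]
    obtain ⟨k, -, hk⟩ := (Nat.dvd_prime_pow Fact.out).1 (orderOf_dvd_of_pow_eq_one h1)
    exact ⟨k, hk⟩
  · intro h1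
    have h2 : pr (zD D h) = pr (zD (1 : Fin n → Fˣ) (by simp)) := by
      rw [h1]
      have h3 : zD (1 : Fin n → Fˣ) (by simp) = 1 := by
        apply Subtype.ext
        change Matrix.diagonal _ = (1 : Matrix (Fin n) (Fin n) F)
        rw [← Matrix.diagonal_one]
        rfl
      rw [h3, map_one]
    obtain ⟨c, hc⟩ := scalar_of_pr h2
    apply hij
    apply Units.ext
    have h4 := hc i
    have h5 := hc j
    rw [Pi.one_apply, Units.val_one] at h4 h5
    have hc0 : c ≠ 0 := by
      rintro rfl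
      rw [zero_mul] at h4
      exact one_ne_zero h4
    exact mul_left_cancel₀ hc0 (h4.symm.trans h5)

/-- the element `y` -/
theorem prod_pair {i j : Fin n} (w : Fˣ) : ∏ l, (Pi.mulSingle i w * Pi.mulSingle j w⁻¹ : Fin n → Fˣ) l = 1 := by
  have h1 : ∀ (i : Fin n) (w : Fˣ), ∏ l, (Pi.mulSingle i w : Fin n → Fˣ) l = w := by
    intro i w
    rw [Finset.prod_eq_single i]
    · rw [Pi.mulSingle_eq_same]
    · intro j _ hj
      rw [Pi.mulSingle_eq_of_ne hj]
    · intro h
      exact absurd (Finset.mem_univ i) h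
  simp only [Pi.mul_apply]
  rw [Finset.prod_mul_distrib, h1, h1, mul_inv_cancel]

theorem yc_data {w : Fˣ} (hw : orderOf w = p) (hp2 : p ≠ 2) {i j l : Fin n} (hij : i ≠ j) (hil : i ≠ l) (hjl : j ≠ l) :
    ∃ y c : Matrix.ProjectiveSpecialLinearGroup (Fin n) F, (∀ (D : Fin n → Fˣ) (h : ∏ j, D j = 1), D i = D j →
      y * pr (zD D h) = pr (zD D h) * y ∧ c * pr (zD D h) = pr (zD D h) * c) ∧ y ^ p = 1 ∧
      c * y * c⁻¹ = y ^ (p - 1) ∧ c * y ≠ y * c := by
  have hp : p.Prime := Fact.out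
  have hwp : w ^ p = 1 := by rw [← hw, pow_orderOf_eq_one]
  set E : Fin n → Fˣ := Pi.mulSingle i w * Pi.mulSingle j w⁻¹ with hE
  have hEp : ∀ l, E l ^ p = 1 := by
    intro l
    rw [hE, Pi.mul_apply, mul_pow]
    have h1 : ∀ (i : Fin n) (w : Fˣ), w ^ p = 1 → (Pi.mulSingle i w : Fin n → Fˣ) l ^ p = 1 := by
      intro i w hw
      by_cases h : l = i
      · rw [h, Pi.mulSingle_eq_same, hw]
      · rw [Pi.mulSingle_eq_of_ne h, one_pow]
    rw [h1 i w hwp, h1 j w⁻¹ (by rw [inv_pow, hwp, inv_one]), one_mul]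
  have hyp : (zD E (prod_pair w)) ^ p = 1 := zD_pow' _ _ hEp
  have hEs : E ∘ Equiv.swap i j = E⁻¹ := by
    funext l
    rw [Function.comp_apply, Pi.inv_apply, hE, Pi.mul_apply, Pi.mul_apply, mul_inv]
    by_cases h1 : l = i
    · rw [h1, Equiv.swap_apply_left, Pi.mulSingle_eq_same, Pi.mulSingle_eq_same, Pi.mulSingle_eq_of_ne hij.symm,
        Pi.mulSingle_eq_of_ne hij, inv_one, mul_one, one_mul]
    · by_cases h2 : l = j
      · rw [h2, Equiv.swap_apply_right, Pi.mulSingle_eq_same, Pi.mulSingle_eq_same, Pi.mulSingle_eq_of_ne hij.symm,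
          Pi.mulSingle_eq_of_ne hij, inv_one, mul_one, one_mul, inv_inv]
      · rw [Equiv.swap_apply_of_ne_of_ne h1 h2, Pi.mulSingle_eq_of_ne h1, Pi.mulSingle_eq_of_ne h2, inv_one]
  have hcy : (sw hij : Matrix.SpecialLinearGroup (Fin n) F) * zD E (prod_pair w) = (zD E (prod_pair w))⁻¹ * sw hij := by
    have hinv : (zD E (prod_pair w))⁻¹ = zD E⁻¹ (by
        have := prod_pair (i := i) (j := j) w
        simp only [Pi.inv_apply, Finset.prod_inv_distrib]
        rw [this, inv_one]) := by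
      rw [inv_eq_iff_mul_eq_one, zD_mul _ _ _ _ (by rw [mul_inv_cancel]; simp)]
      apply Subtype.ext
      change Matrix.diagonal _ = (1 : Matrix (Fin n) (Fin n) F)
      rw [← Matrix.diagonal_one]
      congr 1
      funext l
      rw [mul_inv_cancel]
      rfl
    rw [hinv]
    apply Subtype.ext
    have h1 := sw_diag hij (fun l => (E l : F))
    rw [Matrix.SpecialLinearGroup.coe_mul, Matrix.SpecialLinearGroup.coe_mul, zD_val, zD_val, h1]
    congr 2
    funext l
    exact congrArg Units.val (congrFun hEs l)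
  have hcy' : pr (sw hij : Matrix.SpecialLinearGroup (Fin n) F) * pr (zD E (prod_pair w)) * (pr (sw hij))⁻¹ =
      pr (zD E (prod_pair w)) ^ (p - 1) := by
    rw [mul_inv_eq_iff_eq_mul, ← map_mul, hcy, map_mul]
    congr 1
    rw [map_inv, inv_eq_iff_mul_eq_one, ← pow_succ', Nat.sub_add_cancel hp.one_lt.le, ← map_pow, hyp, map_one]
  refine ⟨pr (zD E (prod_pair w)), pr (sw hij), fun D h hD => ⟨?_, ?_⟩, by rw [← map_pow, hyp, map_one], hcy', ?_⟩
  · rw [← map_mul, ← map_mul]
    congr 1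
    apply Subtype.ext
    rw [Matrix.SpecialLinearGroup.coe_mul, Matrix.SpecialLinearGroup.coe_mul, zD_val, zD_val,
      Matrix.diagonal_mul_diagonal, Matrix.diagonal_mul_diagonal]
    congr 1
    funext l
    exact mul_comm _ _
  · rw [← map_mul, ← map_mul]
    congr 1
    apply Subtype.ext
    have h1 := sw_diag hij (fun l => (D l : F))
    rw [Matrix.SpecialLinearGroup.coe_mul, Matrix.SpecialLinearGroup.coe_mul, zD_val, h1]
    congr 2
    funext l
    rw [Function.comp_apply]
    by_cases h1 : l = i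
    · rw [h1, Equiv.swap_apply_left, hD]
    · by_cases h2 : l = j
      · rw [h2, Equiv.swap_apply_right, hD]
      · rw [Equiv.swap_apply_of_ne_of_ne h1 h2]
  · intro hcomm
    have h1 : (pr (zD E (prod_pair w)))⁻¹ = pr (zD E (prod_pair w)) := by
      have h2 : pr (sw hij : Matrix.SpecialLinearGroup (Fin n) F) * pr (zD E (prod_pair w)) =
          (pr (zD E (prod_pair w)))⁻¹ * pr (sw hij) := by
        rw [← map_mul, hcy, map_mul, map_inv]
      rw [hcomm] at h2
      exact (mul_right_cancel h2).symm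
    have h2 : pr (zD E (prod_pair w) * zD E (prod_pair w)) = 1 := by
      rw [map_mul]
      nth_rewrite 1 [← h1]
      rw [inv_mul_cancel]
    have h3 : ∏ l, (E * E) l = 1 := by
      simp only [Pi.mul_apply]
      rw [Finset.prod_mul_distrib, prod_pair w, one_mul]
    rw [zD_mul _ _ _ _ h3] at h2
    have h4 : pr (zD (E * E) h3) = pr (zD (1 : Fin n → Fˣ) (by simp)) := by
      rw [h2]
      have h3 : zD (1 : Fin n → Fˣ) (by simp) = 1 := by
        apply Subtype.ext
        change Matrix.diagonal _ = (1 : Matrix (Fin n) (Fin n) F)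
        rw [← Matrix.diagonal_one]
        rfl
      rw [h3, map_one]
    obtain ⟨c, hc⟩ := scalar_of_pr h4
    have h5 := hc l
    have h6 := hc i
    have hEl : E l = 1 := by
      rw [hE, Pi.mul_apply, Pi.mulSingle_eq_of_ne hil.symm, Pi.mulSingle_eq_of_ne hjl.symm, one_mul]
    have hEi : E i = w := by
      rw [hE, Pi.mul_apply, Pi.mulSingle_eq_same, Pi.mulSingle_eq_of_ne hij, mul_one]
    rw [Pi.mul_apply, hEl, Pi.one_apply, mul_one, Units.val_one, mul_one] at h5
    rw [Pi.mul_apply, hEi, Pi.one_apply, ← h5, one_mul] at h6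
    have h7 : w ^ 2 = 1 := by
      rw [pow_two]
      exact Units.ext h6.symm
    have h8 := orderOf_dvd_of_pow_eq_one h7
    rw [hw] at h8
    exact hp2 ((Nat.prime_dvd_prime_iff_eq hp Nat.prime_two).1 h8)

theorem wt_two_zD {w : Fˣ} (hw : orderOf w = p) (hp2 : p ≠ 2) {D : Fin n → Fˣ} (h : ∏ j, D j = 1)
    {i j l : Fin n} (hij : i ≠ j) (hil : i ≠ l) (hjl : j ≠ l) (hD : D i = D j) : WtGe.{u, 0} p (pr (zD D h)) 2 := by
  obtain ⟨y, c, h1, h2, h3, h4⟩ := yc_data hw hp2 hij hil hjl
  obtain ⟨h5, h6⟩ := h1 D h hD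
  exact wtGe_two_of h5 h6 h2 h3 h4

theorem not_compl_zD {w : Fˣ} (hw : orderOf w = p) (hp2 : p ≠ 2)
    {i j l : Fin n} (hij : i ≠ j) (hil : i ≠ l) (hjl : j ≠ l) :
    ¬ HasNormalPComplement p (Matrix.ProjectiveSpecialLinearGroup (Fin n) F) := by
  obtain ⟨y, c, h1, h2, h3, h4⟩ := yc_data hw hp2 hij hil hjl
  exact not_compl h2 h3 h4

open Classical in
theorem ev_zD {D : Fin n → Fˣ} (h : ∏ j, D j = 1) (k : ℕ) :
    EV (zD D h : Matrix (Fin n) (Fin n) F) k ↔ ∃ t : F, t ≠ 0 ∧ (Finset.univ.filter fun j => (D j : F) = t).card = k := by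
  have key : ∀ t : F, ((zD D h : Matrix (Fin n) (Fin n) F) - t • 1).rank +
      (Finset.univ.filter fun j => (D j : F) = t).card = n := by
    intro t
    have h1 : (zD D h : Matrix (Fin n) (Fin n) F) - t • 1 = Matrix.diagonal fun j => (D j : F) - t := by
      rw [zD_val, Matrix.smul_one_eq_diagonal, Matrix.diagonal_sub]
    rw [h1, Matrix.rank_diagonal, Fintype.card_subtype]
    have h2 := Finset.card_filter_add_card_filter_not (s := (Finset.univ : Finset (Fin n))) (fun j => (D j : F) = t)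
    rw [Finset.card_univ, Fintype.card_fin] at h2
    rw [add_comm]
    refine Eq.trans ?_ h2
    congr 2
    ext j
    simp only [Finset.mem_filter, Finset.mem_univ, true_and, ne_eq, sub_eq_zero]
  constructor
  · rintro ⟨t, ht, h1⟩
    refine ⟨t, ht, ?_⟩
    have := key t
    omega
  · rintro ⟨t, ht, h1⟩
    refine ⟨t, ht, ?_⟩
    have := key t
    omega

end

end Cfsg.Agent.H734.K6
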