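import Cfsg.Agent.H734.K6.Vec
import Cfsg.Agent.H734.K6.Wt

/-!
# S4876: from `SL(V)` to `PSL_n(F)` (helper734)

`p` does not divide `|F| - 1`.
-/

set_option autoImplicit false
set_option linter.unusedSectionVars false

open Cfsg Module

namespace Cfsg.Agent.H734.K6

open Cfsg.Agent.H734.KB Cfsg.Agent.H61.K6
open Cfsg.Agent.ClassicalGeometry.AutPSL.Root

universe u

theorem coprime_pow {F : Type} [Field F] {p : ℕ} [hp : Fact p.Prime] (hq : ¬ p ∣ Nat.card F - 1) (s : ℕ) :
    (p ^ s).Coprime (Nat.card F - 1) :=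
  Nat.Coprime.pow_left s ((Nat.Prime.coprime_iff_not_dvd hp.out).2 hq)

section gen

variable {F : Type} [Field F] [Finite F] {n : ℕ} {p : ℕ} [Fact p.Prime]

/-- central elements of order prime to `|F| - 1` are trivial -/
theorem eq_one_of_pr (hn : 0 < n) {N : ℕ} (hN : N.Coprime (Nat.card F - 1)) {z : Matrix.SpecialLinearGroup (Fin n) F}
    (hz : z ^ N = 1) (h : pr z = 1) : z = 1 := by
  have := Fintype.ofFinite F
  obtain ⟨c, hc⟩ := exists_smul_of_pr_eq (x := (1 : Matrix.SpecialLinearGroup (Fin n) F)) (y := z) (by rw [h, map_one])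
  rw [Matrix.SpecialLinearGroup.coe_one] at hc
  have h1 : ((z ^ N : Matrix.SpecialLinearGroup (Fin n) F) : Matrix (Fin n) (Fin n) F) = c ^ N • 1 := by
    rw [Matrix.SpecialLinearGroup.coe_pow, hc, smul_pow, one_pow]
  rw [hz, Matrix.SpecialLinearGroup.coe_one] at h1
  have h2 : c ^ N = 1 := by
    have h3 := congrFun (congrFun h1 ⟨0, hn⟩) ⟨0, hn⟩
    rw [Matrix.smul_apply, Matrix.one_apply_eq, smul_eq_mul, mul_one] at h3
    exact h3.symm
  have hc0 : c ≠ 0 := by
    rintro rfl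
    have h3 := z.2
    have h4 : Nonempty (Fin n) := ⟨⟨0, hn⟩⟩
    rw [hc, zero_smul, Matrix.det_zero] at h3
    exact zero_ne_one h3
  have h5 : c ^ (Nat.card F - 1) = 1 := by
    rw [Nat.card_eq_fintype_card]
    exact FiniteField.pow_card_sub_one_eq_one c hc0
  have h6 : orderOf c ∣ 1 := by
    rw [← hN]
    exact Nat.dvd_gcd (orderOf_dvd_of_pow_eq_one h2) (orderOf_dvd_of_pow_eq_one h5)
  have h7 : c = 1 := orderOf_eq_one_iff.1 (Nat.dvd_one.1 h6)
  apply Subtype.ext
  rw [h7, one_smul] at hc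
  exact hc

theorem el_pr (hn : 0 < n) (hq : ¬ p ∣ Nat.card F - 1) {z : Matrix.SpecialLinearGroup (Fin n) F} {s : ℕ}
    (hz : z ^ p ^ s = 1) (hz1 : z ≠ 1) : El p (pr z) := by
  constructor
  · have h1 : (pr z) ^ p ^ s = 1 := by rw [← map_pow, hz, map_one]
    obtain ⟨k, -, hk⟩ := (Nat.dvd_prime_pow Fact.out).1 (orderOf_dvd_of_pow_eq_one h1)
    exact ⟨k, hk⟩
  · exact fun h => hz1 (eq_one_of_pr hn (coprime_pow hq s) hz h)

theorem comm_pr_ne (hn : 0 < n) (hq : ¬ p ∣ Nat.card F - 1) {y c : Matrix.SpecialLinearGroup (Fin n) F}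
    {k : ℕ} (hy : y ^ p = 1)
    (h : c * y * c⁻¹ = y ^ k) (hne : y ^ k ≠ y) : pr c * pr y ≠ pr y * pr c := by
  intro h1
  apply hne
  have h2 : (y ^ k * y⁻¹) ^ p ^ 1 = 1 := by
    have h3 : Commute (y ^ k) y⁻¹ := ((Commute.refl y).pow_left k).inv_right
    rw [pow_one, h3.mul_pow, ← pow_mul, mul_comm k, pow_mul, hy, one_pow, inv_pow, hy, inv_one, one_mul]
  have h3 : pr (y ^ k * y⁻¹) = 1 := by
    rw [← h, map_mul, map_mul, map_mul, h1, map_inv, map_inv, mul_inv_cancel_right, mul_inv_cancel]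
  exact mul_inv_eq_one.1 (eq_one_of_pr hn (coprime_pow hq 1) h2 h3)

theorem wt_two_pr (hn : 0 < n) (hq : ¬ p ∣ Nat.card F - 1) {x y c : Matrix.SpecialLinearGroup (Fin n) F}
    {k : ℕ} (hxy : y * x = x * y) (hxc : c * x = x * c) (hy : y ^ p = 1)
    (h : c * y * c⁻¹ = y ^ k) (hne : y ^ k ≠ y) : WtGe.{u, 0} p (pr x) 2 := by
  refine wtGe_two_of (y := pr y) (c := pr c) (k := k) (by rw [← map_mul, hxy, map_mul]) (by rw [← map_mul, hxc, map_mul])
    (by rw [← map_pow, hy, map_one]) ?_ (comm_pr_ne hn hq hy h hne)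
  rw [← map_inv, ← map_mul, ← map_mul, h, map_pow]

theorem not_compl_pr (hn : 0 < n) (hq : ¬ p ∣ Nat.card F - 1) {y c : Matrix.SpecialLinearGroup (Fin n) F}
    {k : ℕ} (hy : y ^ p = 1) (h : c * y * c⁻¹ = y ^ k) (hne : y ^ k ≠ y) :
    ¬ HasNormalPComplement p (Matrix.ProjectiveSpecialLinearGroup (Fin n) F) := by
  refine not_compl (y := pr y) (c := pr c) (k := k)
    (by rw [← map_pow, hy, map_one]) ?_ (comm_pr_ne hn hq hy h hne)
  rw [← map_inv, ← map_mul, ← map_mul, h, map_pow]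

end gen

section space

variable {F : Type} [Field F] [Finite F] {L : Type} [Field L] [Finite L] [Algebra F L] {a r n : ℕ}

/-- the basis -/
noncomputable def bas [FiniteDimensional F L] (hV : finrank F (W F L a r) = n) : Basis (Fin n) F (W F L a r) :=
  Module.finBasisOfFinrankEq F _ hV

/-- the isomorphism -/
noncomputable def slE [FiniteDimensional F L] (hV : finrank F (W F L a r) = n) :
    Matrix.SpecialLinearGroup (Fin n) F ≃* ↥(SLs F (W F L a r)) :=
  (Matrix.SpecialLinearGroup.toLin_equiv (bas hV)).trans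
    { toFun := fun g => ⟨g.1, mem_SLs.2 g.2⟩
      invFun := fun g => ⟨g.1, mem_SLs.1 g.2⟩
      left_inv := fun _ => rfl
      right_inv := fun _ => rfl
      map_mul' := fun _ _ => rfl }

theorem slE_symm_coe [FiniteDimensional F L] (hV : finrank F (W F L a r) = n) (g : ↥(SLs F (W F L a r))) :
    (((slE hV).symm g : Matrix.SpecialLinearGroup (Fin n) F) : Matrix (Fin n) (Fin n) F) =
      LinearMap.toMatrix (bas hV) (bas hV) ((g : W F L a r ≃ₗ[F] W F L a r) : W F L a r →ₗ[F] W F L a r) := rfl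

theorem card_of_rank [FiniteDimensional F L] (hV : finrank F (W F L a r) = n) (g : ↥(SLs F (W F L a r))) :
    Nat.card {v : W F L a r // (g : W F L a r ≃ₗ[F] W F L a r) v = v} =
      Nat.card F ^ (n - ((((slE hV).symm g : Matrix.SpecialLinearGroup (Fin n) F) : Matrix (Fin n) (Fin n) F) - 1).rank) := by
  classical
  set f : W F L a r →ₗ[F] W F L a r := ((g : W F L a r ≃ₗ[F] W F L a r) : W F L a r →ₗ[F] W F L a r) - LinearMap.id
    with hf
  have h1 : (((slE hV).symm g : Matrix.SpecialLinearGroup (Fin n) F) : Matrix (Fin n) (Fin n) F) - 1 =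
      LinearMap.toMatrix (bas hV) (bas hV) f := by
    rw [slE_symm_coe, hf, map_sub, LinearMap.toMatrix_id]
  have h2 : (LinearMap.toMatrix (bas hV) (bas hV) f).rank = finrank F (LinearMap.range f) := by
    rw [Matrix.rank_eq_finrank_range_toLin _ (bas hV) (bas hV), Matrix.toLin_toMatrix]
  have h3 := LinearMap.finrank_range_add_finrank_ker f
  rw [hV] at h3
  rw [h1, h2]
  have h4 : n - finrank F (LinearMap.range f) = finrank F (LinearMap.ker f) := by omega
  rw [h4, ← Module.natCard_eq_pow_finrank]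
  refine Nat.card_congr (Equiv.subtypeEquivRight fun v => ?_)
  rw [LinearMap.mem_ker, hf, LinearMap.sub_apply, LinearMap.id_apply, sub_eq_zero]
  rfl

theorem fix_of_aut [FiniteDimensional F L] (hV : finrank F (W F L a r) = n) (hn : 2 ≤ n)
    (α : MulAut (Matrix.ProjectiveSpecialLinearGroup (Fin n) F)) {g h : ↥(SLs F (W F L a r))}
    (hα : α (pr ((slE hV).symm g)) = pr ((slE hV).symm h)) {N : ℕ} (hN : N.Coprime (Nat.card F - 1))
    (hg : g ^ N = 1) (hh : h ^ N = 1) :
    Nat.card {v : W F L a r // (g : W F L a r ≃ₗ[F] W F L a r) v = v} =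
      Nat.card {v : W F L a r // (h : W F L a r ≃ₗ[F] W F L a r) v = v} := by
  rw [card_of_rank hV, card_of_rank hV, lift_rank hn α hα hN (by rw [← map_pow, hg, map_one])
    (by rw [← map_pow, hh, map_one])]

theorem dep_iff [FiniteDimensional F L] (hV : finrank F (W F L a r) = n) (g : ↥(SLs F (W F L a r))) (m : ℕ) :
    Dep (((slE hV).symm g : Matrix.SpecialLinearGroup (Fin n) F) : Matrix (Fin n) (Fin n) F) m ↔
      ∃ c : ℕ → F, (∃ i, i ≤ m ∧ c i ≠ 0) ∧ ∀ v : W F L a r,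
        ∑ i ∈ Finset.range (m + 1), c i • ((g : W F L a r ≃ₗ[F] W F L a r) ^ i) v = 0 := by
  have key : ∀ c : ℕ → F, Matrix.toLinAlgEquiv (bas hV) (∑ i ∈ Finset.range (m + 1), c i •
      (((slE hV).symm g : Matrix.SpecialLinearGroup (Fin n) F) : Matrix (Fin n) (Fin n) F) ^ i) =
      ∑ i ∈ Finset.range (m + 1), c i • (((g : W F L a r ≃ₗ[F] W F L a r) : W F L a r →ₗ[F] W F L a r) : Module.End F _) ^ i := by
    intro c
    rw [map_sum]
    refine Finset.sum_congr rfl fun i _ => ?_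
    rw [map_smul, map_pow, slE_symm_coe]
    congr 2
    exact Matrix.toLin_toMatrix (bas hV) (bas hV) _
  have hpow : ∀ (i : ℕ) (v : W F L a r),
      ((((g : W F L a r ≃ₗ[F] W F L a r) : W F L a r →ₗ[F] W F L a r) : Module.End F _) ^ i) v =
        ((g : W F L a r ≃ₗ[F] W F L a r) ^ i) v := by
    intro i
    induction i with
    | zero => intro v; rfl
    | succ i ih =>
      intro v
      rw [pow_succ, pow_succ]
      exact ih _
  constructor
  · rintro ⟨c, hc, h⟩
    refine ⟨c, hc, fun v => ?_⟩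
    have h1 := key c
    rw [h, map_zero] at h1
    have h2 := congrArg (fun f : Module.End F (W F L a r) => f v) h1
    simp only [LinearMap.zero_apply, LinearMap.sum_apply, LinearMap.smul_apply, hpow] at h2
    exact h2.symm
  · rintro ⟨c, hc, h⟩
    refine ⟨c, hc, ?_⟩
    apply (Matrix.toLinAlgEquiv (bas hV)).injective
    rw [key c, map_zero]
    refine LinearMap.ext fun v => ?_
    simp only [LinearMap.zero_apply, LinearMap.sum_apply, LinearMap.smul_apply, hpow]
    exact h v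

theorem dep_dg [FiniteDimensional F L] (hV : finrank F (W F L a r) = n) {k : Fin a → Lˣ}
    (hk : dgH F L k ∈ SLs F (W F L a r)) (m : ℕ) :
    (Dep (((slE hV).symm ⟨dgH F L k, hk⟩ : Matrix.SpecialLinearGroup (Fin n) F) : Matrix (Fin n) (Fin n) F) m →
      ∃ c : ℕ → F, (∃ i, i ≤ m ∧ c i ≠ 0) ∧ ∀ j, ∑ i ∈ Finset.range (m + 1), c i • (k j : L) ^ i = 0) ∧
    ((∃ c : ℕ → F, (∃ i, i ≤ m ∧ c i ≠ 0) ∧ (∀ j, ∑ i ∈ Finset.range (m + 1), c i • (k j : L) ^ i = 0) ∧
      ∑ i ∈ Finset.range (m + 1), c i = 0) →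
      Dep (((slE hV).symm ⟨dgH F L k, hk⟩ : Matrix.SpecialLinearGroup (Fin n) F) : Matrix (Fin n) (Fin n) F) m) := by
  have hval : ∀ (c : ℕ → F) (v : W F L a r),
      ∑ i ∈ Finset.range (m + 1), c i • ((dgH F L k : W F L a r ≃ₗ[F] W F L a r) ^ i) v =
      (fun j => (∑ i ∈ Finset.range (m + 1), c i • (k j : L) ^ i) * v.1 j, (∑ i ∈ Finset.range (m + 1), c i) • v.2) := by
    intro c v
    have h1 : ∀ i : ℕ, c i • ((dgH F L k : W F L a r ≃ₗ[F] W F L a r) ^ i) v =
        (fun j => (c i • (k j : L) ^ i) * v.1 j, c i • v.2) := by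
      intro i
      rw [← map_pow, dgH_apply]
      refine Prod.ext (funext fun j => ?_) rfl
      change c i • ((((k ^ i) j : Lˣ) : L) * v.1 j) = (c i • (k j : L) ^ i) * v.1 j
      rw [Pi.pow_apply, Units.val_pow_eq_pow_val, smul_mul_assoc]
    rw [Finset.sum_congr rfl fun i _ => h1 i]
    refine Prod.ext ?_ ?_
    · rw [Prod.fst_sum]
      funext j
      change _ = (∑ i ∈ Finset.range (m + 1), c i • (k j : L) ^ i) * v.1 j
      rw [Finset.sum_apply, Finset.sum_mul]
    · change _ = (∑ i ∈ Finset.range (m + 1), c i) • v.2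
      rw [Prod.snd_sum, Finset.sum_smul]
  constructor
  · intro h
    obtain ⟨c, hc, h1⟩ := (dep_iff hV _ m).1 h
    refine ⟨c, hc, fun j => ?_⟩
    have h2 := h1 (fun _ => 1, 0)
    rw [hval] at h2
    have h3 := congrFun (congrArg Prod.fst h2) j
    change (∑ i ∈ Finset.range (m + 1), c i • (k j : L) ^ i) * 1 = 0 at h3
    rwa [mul_one] at h3
  · rintro ⟨c, hc, h1, h2⟩
    refine (dep_iff hV _ m).2 ⟨c, hc, fun v => ?_⟩
    rw [hval]
    refine Prod.ext (funext fun j => ?_) ?_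
    · change (∑ i ∈ Finset.range (m + 1), c i • (k j : L) ^ i) * v.1 j = 0
      rw [h1, zero_mul]
    · change (∑ i ∈ Finset.range (m + 1), c i) • v.2 = 0
      rw [h2, zero_smul]

end space

end Cfsg.Agent.H734.K6
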