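import Cfsg.Agent.H734.K6.Lift

/-!
# S4876: `PSL_n(q)`, `p ∤ q - 1` (helper734)
-/

set_option autoImplicit false
set_option linter.unusedSectionVars false

open Cfsg Module

namespace Cfsg.Agent.H734.K6

open Cfsg.Agent.H734.KB Cfsg.Agent.H61.K6
open Cfsg.Agent.ClassicalGeometry.AutPSL.Root

universe u

variable {F : Type} [Field F] [Finite F] {L : Type} [Field L] [Finite L] [Algebra F L] [FiniteDimensional F L]
  {a r n : ℕ} {p : ℕ} [Fact p.Prime]

theorem mem_of_pow {V : Type} [AddCommGroup V] [Module F V] {N : ℕ} (hN : N.Coprime (Nat.card F - 1))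
    {g : V ≃ₗ[F] V} (hg : g ^ N = 1) : g ∈ SLs F V := by
  rw [mem_SLs]
  have h1 : (LinearEquiv.det g) ^ N = 1 := by rw [← map_pow, hg, map_one]
  have h2 : orderOf (LinearEquiv.det g) ∣ Nat.card F - 1 := by
    rw [← Nat.card_units]; exact orderOf_dvd_natCard _
  have h3 := orderOf_dvd_of_pow_eq_one h1
  have h4 : orderOf (LinearEquiv.det g) ∣ 1 := by
    rw [← hN]
    exact Nat.dvd_gcd h3 h2
  exact orderOf_eq_one_iff.1 (Nat.dvd_one.1 h4)

theorem mem_dg {N : ℕ} (hN : N.Coprime (Nat.card F - 1)) {k : Fin a → Lˣ} (hk : k ^ N = 1) :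
    dgH F L k ∈ SLs F (W F L a r) := mem_of_pow hN (by rw [← map_pow, hk, map_one])

theorem exists_frob (F L : Type) [Field F] [Finite F] [Field L] [Finite L] [Algebra F L] :
    ∃ σ : L ≃ₐ[F] L, ∀ x : L, σ x = x ^ Nat.card F := by
  have := Fintype.ofFinite F
  refine ⟨FiniteField.frobeniusAlgEquivOfAlgebraic F L, fun x => ?_⟩
  rw [FiniteField.coe_frobeniusAlgEquivOfAlgebraic, Nat.card_eq_fintype_card]

/-- the two elements for the weight -/
theorem exists_yc (hV : finrank F (W F L a r) = n) (hq : ¬ p ∣ Nat.card F - 1) {k κ : Fin a → Lˣ}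
    (hk : dgH F L k ∈ SLs F (W F L a r)) (i : Fin a) (hκ : κ ^ p = 1) {m : ℕ} {g : W F L a r ≃ₗ[F] W F L a r}
    (h1 : g * dgH F L k = dgH F L k * g) (h2 : g * dgH F L κ = dgH F L (κ ^ m) * g) (hne : κ ^ m ≠ κ) :
    ∃ y c : Matrix.SpecialLinearGroup (Fin n) F, y * (slE hV).symm ⟨dgH F L k, hk⟩ = (slE hV).symm ⟨dgH F L k, hk⟩ * y ∧
      c * (slE hV).symm ⟨dgH F L k, hk⟩ = (slE hV).symm ⟨dgH F L k, hk⟩ * c ∧ y ^ p = 1 ∧ c * y * c⁻¹ = y ^ m ∧
      y ^ m ≠ y := by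
  have hcop : p.Coprime (Nat.card F - 1) := (Nat.Prime.coprime_iff_not_dvd Fact.out).2 hq
  have hκm : dgH F L κ ∈ SLs F (W F L a r) := mem_dg hcop hκ
  obtain ⟨l, hl⟩ := exists_fix g i
  have hcm : g * dgH F L (Pi.mulSingle i l) ∈ SLs F (W F L a r) := mem_SLs.2 hl
  have hcomm : ∀ k k' : Fin a → Lˣ, (dgH F L k : W F L a r ≃ₗ[F] W F L a r) * dgH F L k' = dgH F L k' * dgH F L k := by
    intro k k'
    rw [← map_mul, mul_comm, map_mul]
  refine ⟨(slE hV).symm ⟨dgH F L κ, hκm⟩, (slE hV).symm ⟨_, hcm⟩, ?_, ?_, ?_, ?_, ?_⟩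
  · rw [← map_mul, ← map_mul]
    congr 1
    exact Subtype.ext (hcomm _ _)
  · rw [← map_mul, ← map_mul]
    congr 1
    apply Subtype.ext
    change g * dgH F L (Pi.mulSingle i l) * dgH F L k = dgH F L k * (g * dgH F L (Pi.mulSingle i l))
    rw [mul_assoc, hcomm, ← mul_assoc, h1, mul_assoc]
  · rw [← map_pow]
    have h3 : (⟨dgH F L κ, hκm⟩ : ↥(SLs F (W F L a r))) ^ p = 1 := by
      apply Subtype.ext
      change (dgH F L κ : W F L a r ≃ₗ[F] W F L a r) ^ p = 1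
      rw [← map_pow, hκ, map_one]
    rw [h3, map_one]
  · rw [← map_inv, ← map_mul, ← map_mul, ← map_pow]
    congr 1
    rw [mul_inv_eq_iff_eq_mul]
    apply Subtype.ext
    change g * dgH F L (Pi.mulSingle i l) * dgH F L κ = (dgH F L κ) ^ m * (g * dgH F L (Pi.mulSingle i l))
    rw [mul_assoc, hcomm, ← mul_assoc, h2, map_pow, mul_assoc]
  · intro h3
    rw [← map_pow] at h3
    have h4 := congrArg Subtype.val ((slE hV).symm.injective h3)
    change (dgH F L κ : W F L a r ≃ₗ[F] W F L a r) ^ m = dgH F L κ at h4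
    rw [← map_pow] at h4
    exact hne (dgH_injective h4)

/-- the data for a coordinate with `k j = 1` -/
theorem data_fr {w : Lˣ} (hw : orderOf w = p) (hq : ¬ p ∣ Nat.card F - 1) {k : Fin a → Lˣ} {j : Fin a} (hj : k j = 1) :
    ∃ (κ : Fin a → Lˣ) (m : ℕ) (g : W F L a r ≃ₗ[F] W F L a r), κ ^ p = 1 ∧ g * dgH F L k = dgH F L k * g ∧
      g * dgH F L κ = dgH F L (κ ^ m) * g ∧ κ ^ m ≠ κ := by
  obtain ⟨σ, hσ⟩ := exists_frob F L
  have hwp : w ^ p = 1 := by rw [← hw, pow_orderOf_eq_one]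
  refine ⟨Pi.mulSingle j w, Nat.card F, frE j σ, ?_, ?_, ?_, ?_⟩
  · rw [← Pi.mulSingle_pow, hwp, Pi.mulSingle_one]
  · rw [frE_dgH, hj, map_one, ← hj, Function.update_eq_self]
  · rw [frE_dgH, Pi.mulSingle_eq_same]
    congr 2
    rw [← Pi.mulSingle_pow]
    funext l
    by_cases hl : l = j
    · subst hl
      rw [Function.update_self, Pi.mulSingle_eq_same]
      apply Units.ext
      rw [Units.val_pow_eq_pow_val]
      exact hσ _
    · rw [Function.update_of_ne hl, Pi.mulSingle_eq_of_ne hl, Pi.mulSingle_eq_of_ne hl]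
  · intro h
    have h1 := congrFun h j
    rw [Pi.pow_apply, Pi.mulSingle_eq_same] at h1
    apply hq
    rw [← hw]
    apply orderOf_dvd_of_pow_eq_one
    have hpos : 0 < Nat.card F := Nat.card_pos
    have h2 : w ^ (Nat.card F - 1) * w = 1 * w := by rw [← pow_succ, Nat.sub_add_cancel hpos, h1, one_mul]
    exact mul_right_cancel h2

/-- the data for two equal coordinates -/
theorem data_sw {w : Lˣ} (hw : orderOf w = p) (hp2 : p ≠ 2) {k : Fin a → Lˣ} {i j : Fin a} (hij : i ≠ j) (hkj : k i = k j) :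
    ∃ (κ : Fin a → Lˣ) (m : ℕ) (g : W F L a r ≃ₗ[F] W F L a r), κ ^ p = 1 ∧ g * dgH F L k = dgH F L k * g ∧
      g * dgH F L κ = dgH F L (κ ^ m) * g ∧ κ ^ m ≠ κ := by
  have hp : p.Prime := Fact.out
  have hwp : w ^ p = 1 := by rw [← hw, pow_orderOf_eq_one]
  have hpp := hp.two_le
  have hkp : (Pi.mulSingle i w * Pi.mulSingle j w⁻¹ : Fin a → Lˣ) ^ p = 1 := by
    rw [mul_pow, ← Pi.mulSingle_pow, ← Pi.mulSingle_pow, hwp, inv_pow, hwp, inv_one, Pi.mulSingle_one,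
      Pi.mulSingle_one, one_mul]
  refine ⟨Pi.mulSingle i w * Pi.mulSingle j w⁻¹, p - 1, swE i j, hkp, ?_, ?_, ?_⟩
  · rw [swE_dgH]
    congr 2
    funext l
    rw [Function.comp_apply]
    by_cases h1 : l = i
    · rw [h1, Equiv.swap_apply_left, hkj]
    · by_cases h2 : l = j
      · rw [h2, Equiv.swap_apply_right, hkj]
      · rw [Equiv.swap_apply_of_ne_of_ne h1 h2]
  · rw [swE_dgH]
    congr 2
    have h3 : (Pi.mulSingle i w * Pi.mulSingle j w⁻¹ : Fin a → Lˣ) ^ (p - 1) = (Pi.mulSingle i w * Pi.mulSingle j w⁻¹)⁻¹ := by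
      rw [eq_inv_iff_mul_eq_one, ← pow_succ, Nat.sub_add_cancel (by omega), hkp]
    rw [h3]
    funext l
    rw [Function.comp_apply, Pi.inv_apply, Pi.mul_apply, Pi.mul_apply, mul_inv]
    by_cases h1 : l = i
    · rw [h1, Equiv.swap_apply_left, Pi.mulSingle_eq_same, Pi.mulSingle_eq_same, Pi.mulSingle_eq_of_ne hij.symm,
        Pi.mulSingle_eq_of_ne hij, inv_one, mul_one, one_mul]
    · by_cases h2 : l = j
      · rw [h2, Equiv.swap_apply_right, Pi.mulSingle_eq_same, Pi.mulSingle_eq_same, Pi.mulSingle_eq_of_ne hij.symm,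
          Pi.mulSingle_eq_of_ne hij, inv_one, mul_one, one_mul, inv_inv]
      · rw [Equiv.swap_apply_of_ne_of_ne h1 h2, Pi.mulSingle_eq_of_ne h1, Pi.mulSingle_eq_of_ne h2, inv_one]
  · intro h
    have h1 := congrFun h i
    rw [Pi.pow_apply, Pi.mul_apply, Pi.mulSingle_eq_same, Pi.mulSingle_eq_of_ne hij, mul_one] at h1
    have h2 : w ^ (p - 2) * w = 1 * w := by
      rw [← pow_succ, show p - 2 + 1 = p - 1 by omega, h1, one_mul]
    have h3 := orderOf_dvd_of_pow_eq_one (mul_right_cancel h2)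
    rw [hw] at h3
    have h4 := Nat.le_of_dvd (by omega) h3
    omega

theorem wt_fr (hV : finrank F (W F L a r) = n) (hn : 0 < n) (hq : ¬ p ∣ Nat.card F - 1) {w : Lˣ} (hw : orderOf w = p)
    {k : Fin a → Lˣ} (hk : dgH F L k ∈ SLs F (W F L a r)) (i : Fin a) {j : Fin a} (hj : k j = 1) :
    WtGe.{u, 0} p (pr ((slE hV).symm ⟨dgH F L k, hk⟩)) 2 := by
  obtain ⟨κ, m, g, h1, h2, h3, h4⟩ := data_fr (r := r) hw hq hj
  obtain ⟨y, c, h5, h6, h7, h8, h9⟩ := exists_yc hV hq hk i h1 h2 h3 h4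
  exact wt_two_pr hn hq h5 h6 h7 h8 h9

theorem wt_sw (hV : finrank F (W F L a r) = n) (hn : 0 < n) (hq : ¬ p ∣ Nat.card F - 1) (hp2 : p ≠ 2) {w : Lˣ}
    (hw : orderOf w = p) {k : Fin a → Lˣ} (hk : dgH F L k ∈ SLs F (W F L a r)) {i j : Fin a} (hij : i ≠ j)
    (hkj : k i = k j) : WtGe.{u, 0} p (pr ((slE hV).symm ⟨dgH F L k, hk⟩)) 2 := by
  obtain ⟨κ, m, g, h1, h2, h3, h4⟩ := data_sw (F := F) (r := r) hw hp2 hij hkj
  obtain ⟨y, c, h5, h6, h7, h8, h9⟩ := exists_yc hV hq hk i h1 h2 h3 h4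
  exact wt_two_pr hn hq h5 h6 h7 h8 h9

theorem not_compl_sw (hV : finrank F (W F L a r) = n) (hn : 0 < n) (hq : ¬ p ∣ Nat.card F - 1) (hp2 : p ≠ 2) {w : Lˣ}
    (hw : orderOf w = p) {i j : Fin a} (hij : i ≠ j) :
    ¬ HasNormalPComplement p (Matrix.ProjectiveSpecialLinearGroup (Fin n) F) := by
  obtain ⟨κ, m, g, h1, h2, h3, h4⟩ := data_sw (F := F) (r := r) hw hp2 (k := (1 : Fin a → Lˣ)) hij rfl
  obtain ⟨y, c, -, -, h7, h8, h9⟩ := exists_yc hV hq (k := (1 : Fin a → Lˣ)) (by rw [map_one]; exact one_mem _) i h1 h2 h3 h4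
  exact not_compl_pr hn hq h7 h8 h9

end Cfsg.Agent.H734.K6
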