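import Cfsg.Agent.H734.K6.RowA

/-!
# S4876: `PSL_n(q)`, `d ≥ 2` the order of `q` modulo `p` (helper734)

* `krow_three` : `3 d ≤ n`;
* `krow_two` : `2 d ≤ n`, `d < p - 1`.
-/

set_option autoImplicit false
set_option linter.unusedSectionVars false

open Cfsg Module

namespace Cfsg.Agent.H734.K6

open Cfsg.Agent.H734.KB Cfsg.Agent.H61.K6
open Cfsg.Agent.ClassicalGeometry.AutPSL.Root
open Cfsg.Agent.H200.LinFix

universe u

section elems

variable {F : Type} [Field F] [Finite F] {L : Type} [Field L] [Finite L] [Algebra F L] [FiniteDimensional F L]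
  {a r n : ℕ} {p : ℕ} [Fact p.Prime]

/-- the element of `PSL_n(F)` -/
noncomputable def elt (hV : finrank F (W F L a r) = n) {N : ℕ} (hN : N.Coprime (Nat.card F - 1)) (k : Fin a → Lˣ)
    (hk : k ^ N = 1) : Matrix.ProjectiveSpecialLinearGroup (Fin n) F :=
  pr ((slE hV).symm ⟨dgH F L k, mem_dg hN hk⟩)

theorem sl_pow {N : ℕ} (hN : N.Coprime (Nat.card F - 1)) {k : Fin a → Lˣ} (hk : k ^ N = 1) :
    (⟨dgH F L k, mem_dg hN hk⟩ : ↥(SLs F (W F L a r))) ^ N = 1 := by
  apply Subtype.ext
  change (dgH F L k : W F L a r ≃ₗ[F] W F L a r) ^ N = 1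
  rw [← map_pow, hk, map_one]

theorem el_elt (hV : finrank F (W F L a r) = n) (hn : 0 < n) (hq : ¬ p ∣ Nat.card F - 1) {s : ℕ} {k : Fin a → Lˣ}
    (hk : k ^ p ^ s = 1) (hk1 : k ≠ 1) : El p (elt hV (coprime_pow hq s) k hk) := by
  refine el_pr hn hq (s := s) ?_ ?_
  · rw [← map_pow, sl_pow (coprime_pow hq s) hk, map_one]
  · intro h
    rw [← map_one (slE hV).symm] at h
    have h1 := congrArg Subtype.val ((slE hV).symm.injective h)
    apply hk1
    apply dgH_injective (F := F) (L := L) (r := r)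
    rw [map_one]
    exact h1

theorem card_eq_of_aut (hV : finrank F (W F L a r) = n) (hn : 2 ≤ n) {N : ℕ} (hN : N.Coprime (Nat.card F - 1))
    {k k' : Fin a → Lˣ} (hk : k ^ N = 1) (hk' : k' ^ N = 1)
    (α : Matrix.ProjectiveSpecialLinearGroup (Fin n) F ≃* Matrix.ProjectiveSpecialLinearGroup (Fin n) F)
    (h : α (elt hV hN k hk) = elt hV hN k' hk') :
    Nat.card {j : Fin a // k j = 1} = Nat.card {j : Fin a // k' j = 1} := by
  have h1 := fix_of_aut hV hn α h hN (sl_pow hN hk) (sl_pow hN hk')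
  change Nat.card {v : W F L a r // dgH F L k v = v} = Nat.card {v : W F L a r // dgH F L k' v = v} at h1
  rw [card_fix, card_fix] at h1
  have h2 := Nat.eq_of_mul_eq_mul_right Nat.card_pos h1
  have h3 : 2 ≤ Nat.card L := Finite.one_lt_card
  exact Nat.pow_right_injective h3 h2

theorem dep_elt_of_aut (hV : finrank F (W F L a r) = n) (hn : 2 ≤ n) {N : ℕ} (hN : N.Coprime (Nat.card F - 1))
    {k k' : Fin a → Lˣ} (hk : k ^ N = 1) (hk' : k' ^ N = 1)
    (α : Matrix.ProjectiveSpecialLinearGroup (Fin n) F ≃* Matrix.ProjectiveSpecialLinearGroup (Fin n) F)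
    (h : α (elt hV hN k hk) = elt hV hN k' hk') {m : ℕ}
    (hd : ∃ c : ℕ → F, (∃ i, i ≤ m ∧ c i ≠ 0) ∧ (∀ j, ∑ i ∈ Finset.range (m + 1), c i • (k j : L) ^ i = 0) ∧
      ∑ i ∈ Finset.range (m + 1), c i = 0) :
    ∃ c : ℕ → F, (∃ i, i ≤ m ∧ c i ≠ 0) ∧ ∀ j, ∑ i ∈ Finset.range (m + 1), c i • (k' j : L) ^ i = 0 := by
  have h1 := (dep_dg hV (mem_dg hN hk) m).2 hd
  have h2 := dep_of_aut hn α h hN (by rw [← map_pow, sl_pow hN hk, map_one])
    (by rw [← map_pow, sl_pow hN hk', map_one]) h1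
  exact (dep_dg hV (mem_dg hN hk') m).1 h2

end elems

section three

variable {F : Type} [Field F] [Finite F] {n d : ℕ} {p : ℕ} [Fact p.Prime]

/-- an element of order `p` -/
theorem exists_w (L : Type) [Field L] [Finite L] [Algebra F L] (hL : finrank F L = d) (hd1 : 1 ≤ d)
    (hx : p ∣ Nat.card F ^ d - 1) : ∃ w : Lˣ, orderOf w = p := by
  have hfd : FiniteDimensional F L := FiniteDimensional.of_finrank_pos (by omega)
  have hcard : Nat.card Lˣ = Nat.card F ^ d - 1 := by
    rw [Nat.card_units, Module.natCard_eq_pow_finrank (K := F), hL]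
  exact exists_prime_orderOf_dvd_card' (G := Lˣ) p (by rw [hcard]; exact hx)

/-- **`3 d ≤ n`** -/
theorem krow_three (hd1 : 1 ≤ d) (hn : 3 * d ≤ n) (hp2 : p ≠ 2) (hq : ¬ p ∣ Nat.card F - 1)
    (hx : p ∣ Nat.card F ^ d - 1) : KRow.{u, 0} p (Matrix.ProjectiveSpecialLinearGroup (Fin n) F) := by
  classical
  obtain ⟨L, _, _, _, hL⟩ := H477.HC.exists_L F d (by omega)
  have hfd : FiniteDimensional F L := FiniteDimensional.of_finrank_pos (by omega)
  obtain ⟨w, hw⟩ := exists_w L hL hd1 hx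
  have hp : p.Prime := Fact.out
  have hw1 : w ≠ 1 := by
    rintro rfl
    rw [orderOf_one] at hw
    exact hp.one_lt.ne hw
  have hwp : w ^ p ^ 1 = 1 := by rw [pow_one, ← hw, pow_orderOf_eq_one]
  have hV : finrank F (W F L 3 (n - 3 * d)) = n := by
    rw [Module.finrank_prod, Module.finrank_fin_fun, Module.finrank_pi_fintype]
    simp only [hL, Finset.sum_const, Finset.card_univ, Fintype.card_fin, smul_eq_mul]
    omega
  have hcop := coprime_pow (p := p) hq 1
  let k : Fin 3 → (Fin 3 → Lˣ) := ![![w, 1, 1], ![w, w, 1], ![w, w, w]]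
  have hk : ∀ i, (k i) ^ p ^ 1 = 1 := by
    intro i
    funext j
    fin_cases i <;> fin_cases j <;> first | exact hwp | exact one_pow _
  have h0 : ∀ i, k i 0 = w := by intro i; fin_cases i <;> rfl
  have hfix : ∀ i : Fin 3, Nat.card {j : Fin 3 // k i j = 1} = 2 - (i : ℕ) := by
    intro i
    rw [Nat.card_eq_fintype_card, Fintype.card_subtype]
    fin_cases i
    · have : (Finset.univ.filter fun j : Fin 3 => k 0 j = 1) = {1, 2} := by
        ext j
        fin_cases j <;> simp [k, hw1]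
      simp only [Fin.zero_eta] at this ⊢
      rw [this]; rfl
    · have : (Finset.univ.filter fun j : Fin 3 => k 1 j = 1) = {2} := by
        ext j
        fin_cases j <;> simp [k, hw1]
      simp only [Fin.mk_one] at this ⊢
      rw [this]; rfl
    · have : (Finset.univ.filter fun j : Fin 3 => k 2 j = 1) = ∅ := by
        ext j
        fin_cases j <;> simp [k, hw1]
      change (Finset.univ.filter fun j : Fin 3 => k 2 j = 1).card = 0
      rw [this]; rfl
  have h01 : (0 : Fin 3) ≠ 1 := by decide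
  refine krow_of_fin (m := 3) (not_compl_sw hV (by omega) hq hp2 hw h01) (fun i => elt hV hcop (k i) (hk i)) (fun _ => 2) ?_ ?_ ?_ ?_
  · intro i
    refine el_elt hV (by omega) hq (hk i) fun h => hw1 ?_
    rw [← h0 i, h]
    rfl
  · intro i j α hα
    have h1 := card_eq_of_aut hV (by omega) hcop (hk i) (hk j) α hα
    rw [hfix, hfix] at h1
    apply Fin.ext
    omega
  · intro i
    fin_cases i
    · exact wt_fr hV (by omega) hq hw _ 0 (j := 1) rfl
    · exact wt_sw hV (by omega) hq hp2 hw _ h01 rfl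
    · exact wt_sw hV (by omega) hq hp2 hw _ h01 rfl
  · simp

end three

section two

variable {F : Type} [Field F] [Finite F] {L : Type} [Field L] [Finite L] [Algebra F L] [FiniteDimensional F L] {d : ℕ}

theorem exists_dep (hL : finrank F L = d) (w : L) :
    ∃ c : ℕ → F, (∃ i, i ≤ d + 1 ∧ c i ≠ 0) ∧ ∑ i ∈ Finset.range (d + 1 + 1), c i • w ^ i = 0 ∧
      ∑ i ∈ Finset.range (d + 1 + 1), c i = 0 := by
  classical
  have h1 : ¬ LinearIndependent F (fun i : Fin (d + 1 + 1) => ((w ^ (i : ℕ), 1) : L × F)) := by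
    intro h
    have h2 := h.fintype_card_le_finrank
    rw [Fintype.card_fin, Module.finrank_prod, hL, Module.finrank_self] at h2
    omega
  obtain ⟨g, hg, i, hi⟩ := Fintype.not_linearIndependent_iff.1 h1
  refine ⟨fun i => if h : i < d + 1 + 1 then g ⟨i, h⟩ else 0, ⟨i, by omega, ?_⟩, ?_, ?_⟩
  · change (if h : (i : ℕ) < d + 1 + 1 then g ⟨i, h⟩ else 0) ≠ 0
    rw [dif_pos i.2]
    exact hi
  · rw [Finset.sum_range]
    have h3 := congrArg Prod.fst hg
    rw [Prod.fst_sum] at h3
    rw [← show (0 : L × F).1 = 0 from rfl, ← h3]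
    refine Finset.sum_congr rfl fun j _ => ?_
    change (if h : (j : ℕ) < d + 1 + 1 then g ⟨j, h⟩ else 0) • w ^ (j : ℕ) = g j • w ^ (j : ℕ)
    rw [dif_pos j.2]
  · rw [Finset.sum_range]
    have h3 := congrArg Prod.snd hg
    rw [Prod.snd_sum] at h3
    refine Eq.trans (Finset.sum_congr rfl fun j _ => ?_) h3
    change (if h : (j : ℕ) < d + 1 + 1 then g ⟨j, h⟩ else 0) = g j • (1 : F)
    rw [dif_pos j.2, smul_eq_mul, mul_one]

/-- a polynomial with coefficients in `F` and the roots `w`, `w ^ t` has many roots -/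
theorem no_dep {p : ℕ} [Fact p.Prime] (hd : Ordd p (Nat.card F) d) {w : Lˣ} (hw : orderOf w = p) {t : ℕ}
    (hpt : ¬ p ∣ t) (ht : ∀ i, ¬ t ≡ Nat.card F ^ i [MOD p]) (hqp : (Nat.card F).Coprime p) (h2 : 2 ≤ d) (c : ℕ → F)
    (hc : ∃ i, i ≤ d + 1 ∧ c i ≠ 0) (h1 : ∑ i ∈ Finset.range (d + 1 + 1), c i • (w : L) ^ i = 0)
    (ht1 : ∑ i ∈ Finset.range (d + 1 + 1), c i • ((w : L) ^ t) ^ i = 0) : False := by
  classical
  have hp : p.Prime := Fact.out
  have hpe : ∀ i j : ℕ, (w : L) ^ i = (w : L) ^ j → i ≡ j [MOD p] := by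
    intro i j h
    have h3 : w ^ i = w ^ j := by
      apply Units.ext
      rw [Units.val_pow_eq_pow_val, Units.val_pow_eq_pow_val, h]
    rwa [pow_eq_pow_iff_modEq, hw] at h3
  obtain ⟨σ, hσ⟩ := exists_frob F L
  set f : Polynomial F := ∑ i ∈ Finset.range (d + 1 + 1), Polynomial.monomial i (c i) with hf
  have hf0 : f ≠ 0 := by
    obtain ⟨i, hi, hci⟩ := hc
    intro h0
    apply hci
    have h3 : f.coeff i = c i := by
      rw [hf, Polynomial.finsetSum_coeff, Finset.sum_eq_single i]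
      · rw [Polynomial.coeff_monomial, if_pos rfl]
      · intro j _ hj
        rw [Polynomial.coeff_monomial, if_neg hj]
      · intro h
        exact absurd (Finset.mem_range.2 (by omega)) h
    rw [← h3, h0, Polynomial.coeff_zero]
  have hdeg : f.natDegree ≤ d + 1 := by
    rw [hf]
    refine Polynomial.natDegree_sum_le_of_forall_le _ _ fun i hi => ?_
    exact (Polynomial.natDegree_monomial_le _).trans (by have := Finset.mem_range.1 hi; omega)
  have heval : ∀ x : L, Polynomial.aeval x f = ∑ i ∈ Finset.range (d + 1 + 1), c i • x ^ i := by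
    intro x
    rw [hf, map_sum]
    refine Finset.sum_congr rfl fun i _ => ?_
    rw [Polynomial.aeval_monomial, Algebra.smul_def]
  have hroot : ∀ x : L, Polynomial.aeval x f = 0 → ∀ i : ℕ, Polynomial.aeval (x ^ Nat.card F ^ i) f = 0 := by
    intro x hx i
    induction i with
    | zero => rwa [pow_zero, pow_one]
    | succ i ih =>
      rw [pow_succ, pow_mul, ← hσ, Polynomial.aeval_algHom_apply, ih, map_zero]
  -- the roots
  have hpow : ∀ i j : ℕ, i < d → j < d → Nat.card F ^ i ≡ Nat.card F ^ j [MOD p] → i = j := by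
    have key : ∀ i j : ℕ, i < j → j < d → ¬ Nat.card F ^ i ≡ Nat.card F ^ j [MOD p] := by
      intro i j hij hj h
      have h3 := (Nat.modEq_iff_dvd' (Nat.pow_le_pow_right Nat.card_pos hij.le)).1 h
      have h4 : Nat.card F ^ j - Nat.card F ^ i = Nat.card F ^ i * (Nat.card F ^ (j - i) - 1) := by
        rw [Nat.mul_sub, mul_one, ← pow_add, Nat.add_sub_cancel' hij.le]
      rw [h4] at h3
      have h5 := (Nat.Coprime.dvd_mul_left (Nat.Coprime.pow_right i hqp.symm)).1 h3
      have h6 := Nat.le_of_dvd (by omega) (hd _ h5)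
      omega
    intro i j hi hj h
    rcases lt_trichotomy i j with h3 | h3 | h3
    · exact absurd h (key i j h3 hj)
    · exact h3
    · exact absurd h.symm (key j i h3 hi)
  let g : Fin d ⊕ Fin d → L := Sum.elim (fun i => (w : L) ^ Nat.card F ^ (i : ℕ)) (fun i => ((w : L) ^ t) ^ Nat.card F ^ (i : ℕ))
  have hpt' : p.Coprime t := (Nat.Prime.coprime_iff_not_dvd hp).2 hpt
  have hcross : ∀ i j : ℕ, (w : L) ^ Nat.card F ^ i ≠ ((w : L) ^ t) ^ Nat.card F ^ j := by
    intro i j h
    rw [← pow_mul] at h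
    replace h := hpe _ _ h
    apply ht (i + j * (p - 2))
    have h3 : t * (Nat.card F ^ j * Nat.card F ^ (j * (p - 2))) ≡ t [MOD p] := by
      have h4 : Nat.card F ^ j * Nat.card F ^ (j * (p - 2)) = (Nat.card F ^ j) ^ (p - 1) := by
        rw [← pow_add, ← pow_mul]
        congr 1
        have := hp.two_le
        obtain ⟨s, rfl⟩ := Nat.exists_eq_add_of_le this
        rw [show 2 + s - 2 = s by omega, show 2 + s - 1 = s + 1 by omega]
        ring
      rw [h4]
      have h5 : (Nat.card F ^ j) ^ (p - 1) ≡ 1 [MOD p] := by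
        have := Nat.ModEq.pow_totient (hqp.pow_left j)
        rwa [Nat.totient_prime hp] at this
      calc t * (Nat.card F ^ j) ^ (p - 1) ≡ t * 1 [MOD p] := h5.mul_left t
        _ = t := mul_one t
    refine h3.symm.trans ?_
    rw [← mul_assoc, pow_add]
    exact (h.mul_right _).symm
  have hg : Function.Injective g := by
    rintro (i | i) (j | j) h
    · have h3 : (w : L) ^ Nat.card F ^ (i : ℕ) = (w : L) ^ Nat.card F ^ (j : ℕ) := h
      rw [Fin.ext (hpow _ _ i.2 j.2 (hpe _ _ h3))]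
    · exact absurd h (hcross _ _)
    · exact absurd h.symm (hcross _ _)
    · have h3 : ((w : L) ^ t) ^ Nat.card F ^ (i : ℕ) = ((w : L) ^ t) ^ Nat.card F ^ (j : ℕ) := h
      rw [← pow_mul, ← pow_mul] at h3
      rw [Fin.ext (hpow _ _ i.2 j.2 (Nat.ModEq.cancel_left_of_coprime (by rwa [Nat.Coprime] at hpt') (hpe _ _ h3)))]
  have hmem : ∀ s, g s ∈ (f.map (algebraMap F L)).roots.toFinset := by
    intro s
    rw [Multiset.mem_toFinset, Polynomial.mem_roots (Polynomial.map_ne_zero hf0), Polynomial.IsRoot.def,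
      Polynomial.eval_map_algebraMap]
    rcases s with i | i
    · exact hroot _ (by rw [heval]; exact h1) _
    · exact hroot _ (by rw [heval]; exact ht1) _
  have h3 : (Finset.univ.image g).card ≤ (f.map (algebraMap F L)).roots.toFinset.card := by
    refine Finset.card_le_card fun x hx => ?_
    obtain ⟨s, -, rfl⟩ := Finset.mem_image.1 hx
    exact hmem s
  rw [Finset.card_image_of_injective _ hg, Finset.card_univ, Fintype.card_sum, Fintype.card_fin] at h3
  have h4 := (Multiset.toFinset_card_le _).trans (Polynomial.card_roots' (f.map (algebraMap F L)))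
  rw [Polynomial.natDegree_map] at h4
  omega

/-- an exponent which is not a power of `q` -/
theorem exists_t {p : ℕ} [Fact p.Prime] {q : ℕ} (hqp : q.Coprime p) (h : p ∣ q ^ d - 1) (hq0 : 0 < q) (hd0 : 0 < d)
    (hlt : d < p - 1) : ∃ t : ℕ, ¬ p ∣ t ∧ ∀ i, ¬ t ≡ q ^ i [MOD p] := by
  classical
  have hp : p.Prime := Fact.out
  let u : (ZMod p)ˣ := ZMod.unitOfCoprime q hqp
  have hu : u ^ d = 1 := by
    apply Units.ext
    rw [Units.val_pow_eq_pow_val, ZMod.coe_unitOfCoprime, Units.val_one, ← Nat.cast_pow]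
    have h1 : 1 ≤ q ^ d := Nat.one_le_pow _ _ hq0
    have h2 : ((q ^ d - 1 : ℕ) : ZMod p) = 0 := (ZMod.natCast_eq_zero_iff _ _).2 h
    rw [Nat.cast_sub h1, Nat.cast_one] at h2
    exact sub_eq_zero.1 h2
  obtain ⟨t, ht⟩ : ∃ t : (ZMod p)ˣ, t ∉ Subgroup.zpowers u := by
    by_contra hcon
    push Not at hcon
    have h1 : Nat.card (Subgroup.zpowers u) = p - 1 := by
      have h2 : Subgroup.zpowers u = ⊤ := (Subgroup.eq_top_iff' _).2 hcon
      rw [h2, Subgroup.card_top, Nat.card_eq_fintype_card, ZMod.card_units]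
    rw [Nat.card_zpowers] at h1
    have h2 := Nat.le_of_dvd hd0 (orderOf_dvd_of_pow_eq_one hu)
    omega
  have hval : (((t : ZMod p).val : ℕ) : ZMod p) = (t : ZMod p) := ZMod.natCast_zmod_val _
  refine ⟨(t : ZMod p).val, ?_, fun i hi => ht ⟨i, ?_⟩⟩
  · intro h1
    rw [← ZMod.natCast_eq_zero_iff, hval] at h1
    exact t.ne_zero h1
  · apply Units.ext
    change ((u ^ (i : ℤ) : (ZMod p)ˣ) : ZMod p) = (t : ZMod p)
    rw [zpow_natCast, Units.val_pow_eq_pow_val, ZMod.coe_unitOfCoprime, ← Nat.cast_pow, ← hval]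
    exact ((ZMod.natCast_eq_natCast_iff _ _ _).2 hi).symm

end two

section rowtwo

variable {F : Type} [Field F] [Finite F] {n d : ℕ} {p : ℕ} [Fact p.Prime]

/-- **`2 d ≤ n`, `2 ≤ d < p - 1`** -/
theorem krow_two (hd2 : 2 ≤ d) (hn : 2 * d ≤ n) (hdp : d < p - 1) (hq : ¬ p ∣ Nat.card F - 1)
    (hd : Ordd p (Nat.card F) d) (hqp : (Nat.card F).Coprime p)
    (hx : p ∣ Nat.card F ^ d - 1) : KRow.{u, 0} p (Matrix.ProjectiveSpecialLinearGroup (Fin n) F) := by
  classical
  obtain ⟨L, _, _, _, hL⟩ := H477.HC.exists_L F d (by omega)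
  have hfd : FiniteDimensional F L := FiniteDimensional.of_finrank_pos (by omega)
  obtain ⟨w, hw⟩ := exists_w L hL (by omega) hx
  have hp : p.Prime := Fact.out
  have hp2 : p ≠ 2 := by omega
  obtain ⟨t, hpt, ht⟩ := exists_t (p := p) hqp hx Nat.card_pos (by omega) hdp
  have hw1 : w ≠ 1 := by
    rintro rfl
    rw [orderOf_one] at hw
    exact hp.one_lt.ne hw
  have hwp : w ^ p ^ 1 = 1 := by rw [pow_one, ← hw, pow_orderOf_eq_one]
  have hwt1 : w ^ t ≠ 1 := by
    intro h
    apply hpt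
    rw [← hw]
    exact orderOf_dvd_of_pow_eq_one h
  have hV : finrank F (W F L 2 (n - 2 * d)) = n := by
    rw [Module.finrank_prod, Module.finrank_fin_fun, Module.finrank_pi_fintype]
    simp only [hL, Finset.sum_const, Finset.card_univ, Fintype.card_fin, smul_eq_mul]
    omega
  have hcop := coprime_pow (p := p) hq 1
  let k : Fin 3 → (Fin 2 → Lˣ) := ![![w, 1], ![w, w], ![w, w ^ t]]
  have hk : ∀ i, (k i) ^ p ^ 1 = 1 := by
    intro i
    funext j
    fin_cases i <;> fin_cases j <;>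
      first | exact hwp | exact one_pow _ | (change (w ^ t) ^ p ^ 1 = 1; rw [← pow_mul, mul_comm, pow_mul, hwp, one_pow])
  have h0 : ∀ i, k i 0 = w := by intro i; fin_cases i <;> rfl
  have hfix0 : Nat.card {j : Fin 2 // k 0 j = 1} = 1 := by
    rw [Nat.card_eq_fintype_card, Fintype.card_subtype]
    have : (Finset.univ.filter fun j : Fin 2 => k 0 j = 1) = {1} := by
      ext j
      fin_cases j <;> simp [k, hw1]
    rw [this]; rfl
  have hfix1 : Nat.card {j : Fin 2 // k 1 j = 1} = 0 := by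
    rw [Nat.card_eq_fintype_card, Fintype.card_subtype]
    have : (Finset.univ.filter fun j : Fin 2 => k 1 j = 1) = ∅ := by
      ext j
      fin_cases j <;> simp [k, hw1]
    rw [this]; rfl
  have hfix2 : Nat.card {j : Fin 2 // k 2 j = 1} = 0 := by
    rw [Nat.card_eq_fintype_card, Fintype.card_subtype]
    have : (Finset.univ.filter fun j : Fin 2 => k 2 j = 1) = ∅ := by
      ext j
      fin_cases j <;> simp [k, hw1, hwt1]
    rw [this]; rfl
  have h01 : (0 : Fin 2) ≠ 1 := by decide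
  have hdep : ∀ α : Matrix.ProjectiveSpecialLinearGroup (Fin n) F ≃* Matrix.ProjectiveSpecialLinearGroup (Fin n) F,
      α (elt hV hcop (k 1) (hk 1)) ≠ elt hV hcop (k 2) (hk 2) := by
    intro α hα
    obtain ⟨c, hc, h1, h2⟩ := exists_dep hL (w : L)
    obtain ⟨c', hc', h3⟩ := dep_elt_of_aut hV (by omega) hcop (hk 1) (hk 2) α hα (m := d + 1) ⟨c, hc, fun j => by
      fin_cases j
      · exact h1
      · exact h1, h2⟩
    refine no_dep hd hw hpt ht hqp hd2 c' hc' (h3 0) ?_
    have h4 := h3 1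
    change ∑ i ∈ Finset.range (d + 1 + 1), c' i • ((w ^ t : Lˣ) : L) ^ i = 0 at h4
    rwa [Units.val_pow_eq_pow_val] at h4
  refine krow_of_fin (m := 3) (not_compl_sw hV (by omega) hq hp2 hw h01) (fun i => elt hV hcop (k i) (hk i)) ![2, 2, 1] ?_ ?_ ?_ ?_
  · intro i
    refine el_elt hV (by omega) hq (hk i) fun h => hw1 ?_
    rw [← h0 i, h]
    rfl
  · intro i j α hα
    have h1 := card_eq_of_aut hV (by omega) hcop (hk i) (hk j) α hα
    fin_cases i <;> fin_cases j
    · rfl
    · exact absurd (hfix0.symm.trans (h1.trans hfix1)) (by decide)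
    · exact absurd (hfix0.symm.trans (h1.trans hfix2)) (by decide)
    · exact absurd (hfix1.symm.trans (h1.trans hfix0)) (by decide)
    · rfl
    · exact absurd hα (hdep α)
    · exact absurd (hfix2.symm.trans (h1.trans hfix0)) (by decide)
    · exfalso
      refine hdep α.symm ?_
      rw [MulEquiv.symm_apply_eq]
      exact hα.symm
    · rfl
  · intro i
    fin_cases i
    · exact wt_fr hV (by omega) hq hw _ 0 (j := 1) rfl
    · exact wt_sw hV (by omega) hq hp2 hw _ h01 rfl
    · exact wtGe_one _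
  · decide

/-- **`2 d ≤ n`, an element of order `p²`**: `d ≥ 2` -/
theorem krow_sq (hd2 : 2 ≤ d) (hn : 2 * d ≤ n) (hp2 : p ≠ 2) (hq : ¬ p ∣ Nat.card F - 1)
    (hx : p ^ 2 ∣ Nat.card F ^ d - 1) : KRow.{u, 0} p (Matrix.ProjectiveSpecialLinearGroup (Fin n) F) := by
  classical
  obtain ⟨L, _, _, _, hL⟩ := H477.HC.exists_L F d (by omega)
  have hfd : FiniteDimensional F L := FiniteDimensional.of_finrank_pos (by omega)
  have hp : p.Prime := Fact.out
  have hcard : Nat.card Lˣ = Nat.card F ^ d - 1 := by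
    rw [Nat.card_units, Module.natCard_eq_pow_finrank (K := F), hL]
  obtain ⟨z, hz⟩ : ∃ z : Lˣ, orderOf z = p ^ 2 := by
    obtain ⟨g, hg⟩ := IsCyclic.exists_generator (α := Lˣ)
    have h1 : orderOf g = Nat.card Lˣ := orderOf_eq_card_of_forall_mem_zpowers hg
    obtain ⟨m, hm⟩ := hx
    rw [hcard, hm] at h1
    have hm0 : m ≠ 0 := by
      rintro rfl
      rw [mul_zero] at h1
      exact (orderOf_pos g).ne' h1
    refine ⟨g ^ m, ?_⟩
    rw [orderOf_pow_of_dvd hm0 (by rw [h1]; exact dvd_mul_left _ _), h1, Nat.mul_div_cancel _ (Nat.pos_of_ne_zero hm0)]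
  have hw : orderOf (z ^ p) = p := by
    rw [orderOf_pow_of_dvd hp.ne_zero (by rw [hz]; exact dvd_pow_self p two_ne_zero), hz, pow_two,
      Nat.mul_div_cancel _ hp.pos]
  set w := z ^ p with hwz
  have hw1 : w ≠ 1 := by
    intro h
    rw [h, orderOf_one] at hw
    exact hp.one_lt.ne hw
  have hz1 : z ≠ 1 := by
    rintro h
    apply hw1
    rw [hwz, h, one_pow]
  have hzp : z ^ p ^ 2 = 1 := by rw [← hz, pow_orderOf_eq_one]
  have hwp : w ^ p = 1 := by rw [← hw, pow_orderOf_eq_one]
  have hwp2 : w ^ p ^ 2 = 1 := by rw [pow_two, pow_mul, hwp, one_pow]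
  have hV : finrank F (W F L 2 (n - 2 * d)) = n := by
    rw [Module.finrank_prod, Module.finrank_fin_fun, Module.finrank_pi_fintype]
    simp only [hL, Finset.sum_const, Finset.card_univ, Fintype.card_fin, smul_eq_mul]
    omega
  have hcop := coprime_pow (p := p) hq 2
  let k : Fin 3 → (Fin 2 → Lˣ) := ![![w, 1], ![w, w], ![z, 1]]
  have hk : ∀ i, (k i) ^ p ^ 2 = 1 := by
    intro i
    funext j
    fin_cases i <;> fin_cases j <;> first | exact hwp2 | exact one_pow _ | exact hzp
  have hk1 : ∀ i, k i ≠ 1 := by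
    intro i h
    have h1 := congrFun h 0
    fin_cases i
    · exact hw1 h1
    · exact hw1 h1
    · exact hz1 h1
  have hfix0 : Nat.card {j : Fin 2 // k 0 j = 1} = 1 := by
    rw [Nat.card_eq_fintype_card, Fintype.card_subtype]
    have : (Finset.univ.filter fun j : Fin 2 => k 0 j = 1) = {1} := by
      ext j
      fin_cases j <;> simp [k, hw1]
    rw [this]; rfl
  have hfix1 : Nat.card {j : Fin 2 // k 1 j = 1} = 0 := by
    rw [Nat.card_eq_fintype_card, Fintype.card_subtype]
    have : (Finset.univ.filter fun j : Fin 2 => k 1 j = 1) = ∅ := by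
      ext j
      fin_cases j <;> simp [k, hw1]
    rw [this]; rfl
  have hfix2 : Nat.card {j : Fin 2 // k 2 j = 1} = 1 := by
    rw [Nat.card_eq_fintype_card, Fintype.card_subtype]
    have : (Finset.univ.filter fun j : Fin 2 => k 2 j = 1) = {1} := by
      ext j
      fin_cases j <;> simp [k, hz1]
    rw [this]; rfl
  have hord : ∀ i, (elt hV hcop (k i) (hk i)) ^ p = 1 ↔ (k i) ^ p = 1 := by
    intro i
    constructor
    · intro h
      unfold elt at h
      rw [← map_pow] at h
      have h1 := eq_one_of_pr (by omega) hcop (by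
        rw [← pow_mul, mul_comm p (p ^ 2), pow_mul, ← map_pow, sl_pow hcop (hk i), map_one, one_pow]) h
      rw [← map_pow, ← map_one (slE hV).symm] at h1
      have h2 := congrArg Subtype.val ((slE hV).symm.injective h1)
      apply dgH_injective (F := F) (L := L) (r := n - 2 * d)
      rw [map_one, map_pow]
      exact h2
    · intro h
      unfold elt
      rw [← map_pow, ← map_pow]
      have h1 : (⟨dgH F L (k i), mem_dg hcop (hk i)⟩ : ↥(SLs F (W F L 2 (n - 2 * d)))) ^ p = 1 := by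
        apply Subtype.ext
        change (dgH F L (k i) : W F L 2 (n - 2 * d) ≃ₗ[F] W F L 2 (n - 2 * d)) ^ p = 1
        rw [← map_pow, h, map_one]
      rw [h1, map_one, map_one]
  have hp0 : (k 0) ^ p = 1 := by
    funext j
    fin_cases j
    · exact hwp
    · exact one_pow _
  have hp2' : ¬ (k 2) ^ p = 1 := fun h => hw1 (congrFun h 0)
  have h01 : (0 : Fin 2) ≠ 1 := by decide
  refine krow_of_fin (m := 3) (not_compl_sw hV (by omega) hq hp2 hw h01) (fun i => elt hV hcop (k i) (hk i)) ![2, 2, 1] ?_ ?_ ?_ ?_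
  · intro i
    exact el_elt hV (by omega) hq (hk i) (hk1 i)
  · intro i j α hα
    have h1 := card_eq_of_aut hV (by omega) hcop (hk i) (hk j) α hα
    have h2 : (k i) ^ p = 1 ↔ (k j) ^ p = 1 := by
      rw [← hord, ← hord]
      have h3 : α (elt hV hcop (k i) (hk i)) = elt hV hcop (k j) (hk j) := hα
      rw [← h3, ← map_pow]
      exact (map_eq_one_iff α α.injective).symm
    fin_cases i <;> fin_cases j
    · rfl
    · exact absurd (hfix0.symm.trans (h1.trans hfix1)) (by decide)
    · exact absurd (h2.1 hp0) hp2'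
    · exact absurd (hfix1.symm.trans (h1.trans hfix0)) (by decide)
    · rfl
    · exact absurd (hfix1.symm.trans (h1.trans hfix2)) (by decide)
    · exact absurd (h2.2 hp0) hp2'
    · exact absurd (hfix2.symm.trans (h1.trans hfix1)) (by decide)
    · rfl
  · intro i
    fin_cases i
    · exact wt_fr hV (by omega) hq hw _ 0 (j := 1) rfl
    · exact wt_sw hV (by omega) hq hp2 hw _ h01 rfl
    · exact wtGe_one _
  · decide

end rowtwo

end Cfsg.Agent.H734.K6
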