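import Cfsg.Agent.H734.K6.Diag

/-!
# S4876: `PSL_n(q)`, `n ≥ 4`, `p ∣ q - 1` (helper734)
-/

set_option autoImplicit false
set_option linter.unusedSectionVars false

open Cfsg Module

namespace Cfsg.Agent.H734.K6

open Cfsg.Agent.H734.KB Cfsg.Agent.H61.K6
open Cfsg.Agent.ClassicalGeometry.AutPSL.Root

universe u

section vec

variable {F : Type} [Field F]

/-- the diagonal `(a, b, c, e, 1, ..., 1)` -/
def vec4 (m : ℕ) (a b c e : Fˣ) : Fin (m + 4) → Fˣ :=
  Fin.cons a (Fin.cons b (Fin.cons c (Fin.cons e fun _ => 1)))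

theorem prod_vec4 (m : ℕ) {a b c e : Fˣ} (h : a * b * c * e = 1) : ∏ j, vec4 m a b c e j = 1 := by
  rw [Fin.prod_univ_succ, Fin.prod_univ_succ, Fin.prod_univ_succ, Fin.prod_univ_succ]
  simp only [vec4, Fin.cons_zero, Fin.cons_succ, Finset.prod_const_one, mul_one]
  rw [← mul_assoc, ← mul_assoc, h]

open Classical in
theorem count_vec4 (m : ℕ) (a b c e : Fˣ) (t : F) :
    (Finset.univ.filter fun j => (vec4 m a b c e j : F) = t).card =
      (if (a : F) = t then 1 else 0) + (if (b : F) = t then 1 else 0) + (if (c : F) = t then 1 else 0) +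
        (if (e : F) = t then 1 else 0) + (if 1 = t then m else 0) := by
  rw [Finset.card_filter, Fin.sum_univ_succ, Fin.sum_univ_succ, Fin.sum_univ_succ, Fin.sum_univ_succ]
  simp only [vec4, Fin.cons_zero, Fin.cons_succ, Units.val_one]
  rw [Finset.sum_const, Finset.card_univ, Fintype.card_fin]
  split_ifs <;> simp <;> omega

/-- the diagonal `(a, b, c, e, f)` -/
def vec5 (a b c e f : Fˣ) : Fin 5 → Fˣ :=
  Fin.cons a (Fin.cons b (Fin.cons c (Fin.cons e fun _ => f)))

theorem prod_vec5 {a b c e f : Fˣ} (h : a * b * c * e * f = 1) : ∏ j, vec5 a b c e f j = 1 := by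
  rw [Fin.prod_univ_succ, Fin.prod_univ_succ, Fin.prod_univ_succ, Fin.prod_univ_succ, Fin.prod_univ_one]
  simp only [vec5, Fin.cons_zero, Fin.cons_succ]
  rw [← mul_assoc, ← mul_assoc, ← mul_assoc, h]

open Classical in
theorem count_vec5 (a b c e f : Fˣ) (t : F) :
    (Finset.univ.filter fun j => (vec5 a b c e f j : F) = t).card =
      (if (a : F) = t then 1 else 0) + (if (b : F) = t then 1 else 0) + (if (c : F) = t then 1 else 0) +
        (if (e : F) = t then 1 else 0) + (if (f : F) = t then 1 else 0) := by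
  rw [Finset.card_filter, Fin.sum_univ_succ, Fin.sum_univ_succ, Fin.sum_univ_succ, Fin.sum_univ_succ, Fin.sum_univ_one]
  simp only [vec5, Fin.cons_zero, Fin.cons_succ]
  omega

theorem vec5_forall {a b c e f : Fˣ} {P : Fˣ → Prop} (ha : P a) (hb : P b) (hc : P c) (he : P e) (hf : P f) :
    ∀ j, P (vec5 a b c e f j) := by
  intro j
  fin_cases j
  · exact ha
  · exact hb
  · exact hc
  · exact he
  · exact hf

theorem vec4_forall {m : ℕ} {a b c e : Fˣ} {P : Fˣ → Prop} (ha : P a) (hb : P b) (hc : P c) (he : P e) (hf : P 1) :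
    ∀ j, P (vec4 m a b c e j) := by
  intro j
  refine Fin.cases ha (fun j => ?_) j
  refine Fin.cases hb (fun j => ?_) j
  refine Fin.cases hc (fun j => ?_) j
  refine Fin.cases he (fun j => ?_) j
  exact hf

end vec

section ev

variable {F : Type} [Field F] [Fintype F] {p : ℕ} [Fact p.Prime]

theorem val_ne {w : Fˣ} {i j : ℤ} (hw : orderOf w = p) (h : ¬ (p : ℤ) ∣ i - j) : ((w ^ i : Fˣ) : F) ≠ ((w ^ j : Fˣ) : F) := by
  intro h1
  apply h
  have h2 : w ^ i = w ^ j := Units.ext h1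
  have h3 : w ^ (i - j) = 1 := by rw [zpow_sub, h2, mul_inv_cancel]
  rw [← hw]
  exact orderOf_dvd_iff_zpow_eq_one.2 h3

open Classical in
/-- `(w, w⁻¹, 1, 1, ...)` -/
theorem ev_one {m : ℕ} {w : Fˣ} (h1 : (w : F) ≠ 1) (h2 : ((w⁻¹ : Fˣ) : F) ≠ 1) (h3 : (w : F) ≠ ((w⁻¹ : Fˣ) : F))
    (h : ∏ j, vec4 m w w⁻¹ 1 1 j = 1) {k : ℕ} (hk : 1 ≤ k) :
    EV (zD (vec4 m w w⁻¹ 1 1) h : Matrix (Fin (m + 4)) (Fin (m + 4)) F) k ↔ (k = m + 2 ∨ k = 1) := by
  rw [ev_zD]
  simp only [count_vec4, Units.val_one]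
  constructor
  · rintro ⟨t, ht, h4⟩
    by_cases e1 : 1 = t
    · subst e1
      simp only [h1, h2, if_true, if_false] at h4
      omega
    · by_cases e2 : (w : F) = t
      · subst e2
        simp only [h3.symm, e1, if_true, if_false] at h4
        omega
      · by_cases e3 : ((w⁻¹ : Fˣ) : F) = t
        · subst e3
          simp only [h3, e1, if_true, if_false] at h4
          omega
        · simp only [e1, e2, e3, if_false] at h4
          omega
  · rintro (h4 | h4)
    · refine ⟨1, one_ne_zero, ?_⟩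
      simp only [h1, h2, if_true, if_false]
      omega
    · refine ⟨w, w.ne_zero, ?_⟩
      simp only [h3.symm, h1.symm, if_true, if_false]
      omega

open Classical in
/-- `(w, w, w⁻¹, w⁻¹, ...)` -/
theorem ev_three {m : ℕ} {w : Fˣ} (h1 : (w : F) ≠ 1) (h2 : ((w⁻¹ : Fˣ) : F) ≠ 1) (h3 : (w : F) ≠ ((w⁻¹ : Fˣ) : F))
    (h : ∏ j, vec4 m w w w⁻¹ w⁻¹ j = 1) {k : ℕ} (hk : 1 ≤ k) :
    EV (zD (vec4 m w w w⁻¹ w⁻¹) h : Matrix (Fin (m + 4)) (Fin (m + 4)) F) k ↔ (k = m ∨ k = 2) := by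
  rw [ev_zD]
  simp only [count_vec4]
  constructor
  · rintro ⟨t, ht, h4⟩
    by_cases e1 : 1 = t
    · subst e1
      simp only [h1, h2, if_true, if_false] at h4
      omega
    · by_cases e2 : (w : F) = t
      · subst e2
        simp only [h3.symm, e1, if_true, if_false] at h4
        omega
      · by_cases e3 : ((w⁻¹ : Fˣ) : F) = t
        · subst e3
          simp only [h3, e1, if_true, if_false] at h4
          omega
        · simp only [e1, e2, e3, if_false] at h4
          omega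
  · rintro (h4 | h4)
    · refine ⟨1, one_ne_zero, ?_⟩
      simp only [h1, h2, if_true, if_false]
      omega
    · refine ⟨w, w.ne_zero, ?_⟩
      simp only [h3.symm, h1.symm, if_true, if_false]
      omega

open Classical in
/-- `(w, w, w, 1, ...)` -/
theorem ev_two {m : ℕ} {w : Fˣ} (h1 : (w : F) ≠ 1)
    (h : ∏ j, vec4 m w w w 1 j = 1) {k : ℕ} (hk : 1 ≤ k) :
    EV (zD (vec4 m w w w 1) h : Matrix (Fin (m + 4)) (Fin (m + 4)) F) k ↔ (k = m + 1 ∨ k = 3) := by
  rw [ev_zD]
  simp only [count_vec4, Units.val_one]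
  constructor
  · rintro ⟨t, ht, h4⟩
    by_cases e1 : 1 = t
    · subst e1
      simp only [h1, if_true, if_false] at h4
      omega
    · by_cases e2 : (w : F) = t
      · subst e2
        simp only [e1, if_true, if_false] at h4
        omega
      · simp only [e1, e2, if_false] at h4
        omega
  · rintro (h4 | h4)
    · refine ⟨1, one_ne_zero, ?_⟩
      simp only [h1, if_true, if_false]
      omega
    · refine ⟨w, w.ne_zero, ?_⟩
      simp only [h1.symm, if_true, if_false]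
      omega

open Classical in
/-- `(w, w, w, e, ...)` -/
theorem ev_two' {m : ℕ} {w e : Fˣ} (h1 : (w : F) ≠ 1) (h2 : (e : F) ≠ 1) (h3 : (w : F) ≠ (e : F))
    (h : ∏ j, vec4 m w w w e j = 1) {k : ℕ} (hk : 1 ≤ k) :
    EV (zD (vec4 m w w w e) h : Matrix (Fin (m + 4)) (Fin (m + 4)) F) k ↔ (k = m ∨ k = 3 ∨ k = 1) := by
  rw [ev_zD]
  simp only [count_vec4]
  constructor
  · rintro ⟨t, ht, h4⟩
    by_cases e1 : 1 = t
    · subst e1
      simp only [h1, h2, if_true, if_false] at h4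
      omega
    · by_cases e2 : (w : F) = t
      · subst e2
        simp only [h3.symm, e1, if_true, if_false] at h4
        omega
      · by_cases e3 : (e : F) = t
        · subst e3
          simp only [h3, e1, if_true, if_false] at h4
          omega
        · simp only [e1, e2, e3, if_false] at h4
          omega
  · rintro (h4 | h4 | h4)
    · refine ⟨1, one_ne_zero, ?_⟩
      simp only [h1, h2, if_true, if_false]
      omega
    · refine ⟨w, w.ne_zero, ?_⟩
      simp only [h3.symm, h1.symm, if_true, if_false]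
      omega
    · refine ⟨e, e.ne_zero, ?_⟩
      simp only [h3, h2.symm, if_true, if_false]
      omega

open Classical in
/-- `(w, w, w, w, e)` -/
theorem ev_four {w e : Fˣ} (h3 : (w : F) ≠ (e : F))
    (h : ∏ j, vec5 w w w w e j = 1) {k : ℕ} (hk : 1 ≤ k) :
    EV (zD (vec5 w w w w e) h : Matrix (Fin 5) (Fin 5) F) k ↔ (k = 4 ∨ k = 1) := by
  rw [ev_zD]
  simp only [count_vec5]
  constructor
  · rintro ⟨t, ht, h4⟩
    by_cases e2 : (w : F) = t
    · subst e2
      simp only [h3.symm, if_true, if_false] at h4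
      omega
    · by_cases e3 : (e : F) = t
      · subst e3
        simp only [h3, if_true, if_false] at h4
        omega
      · simp only [e2, e3, if_false] at h4
        omega
  · rintro (h4 | h4)
    · refine ⟨w, w.ne_zero, ?_⟩
      simp only [h3.symm, if_true, if_false]
      omega
    · refine ⟨e, e.ne_zero, ?_⟩
      simp only [h3, if_true, if_false]
      omega

open Classical in
/-- `(1, w, w², w³, w⁴)` -/
theorem ev_five {a b c e f : Fˣ} (hab : (a : F) ≠ b) (hac : (a : F) ≠ c) (hae : (a : F) ≠ e) (haf : (a : F) ≠ f)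
    (hbc : (b : F) ≠ c) (hbe : (b : F) ≠ e) (hbf : (b : F) ≠ f) (hce : (c : F) ≠ e) (hcf : (c : F) ≠ f) (hef : (e : F) ≠ f)
    (h : ∏ j, vec5 a b c e f j = 1) {k : ℕ} (hk : 1 ≤ k) :
    EV (zD (vec5 a b c e f) h : Matrix (Fin 5) (Fin 5) F) k ↔ k = 1 := by
  rw [ev_zD]
  simp only [count_vec5]
  constructor
  · rintro ⟨t, ht, h4⟩
    by_cases e1 : (a : F) = t
    · subst e1
      simp only [hab.symm, hac.symm, hae.symm, haf.symm, if_true, if_false] at h4
      omega
    by_cases e2 : (b : F) = t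
    · subst e2
      simp only [hab, hbc.symm, hbe.symm, hbf.symm, if_true, if_false] at h4
      omega
    by_cases e3 : (c : F) = t
    · subst e3
      simp only [hac, hbc, hce.symm, hcf.symm, if_true, if_false] at h4
      omega
    by_cases e4 : (e : F) = t
    · subst e4
      simp only [hae, hbe, hce, hef.symm, if_true, if_false] at h4
      omega
    by_cases e5 : (f : F) = t
    · subst e5
      simp only [haf, hbf, hcf, hef, if_true, if_false] at h4
      omega
    simp only [e1, e2, e3, e4, e5, if_false] at h4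
    omega
  · rintro h4
    refine ⟨a, a.ne_zero, ?_⟩
    simp only [hab.symm, hac.symm, hae.symm, haf.symm, if_true, if_false]
    omega

end ev

section row

variable {F : Type} [Field F] [Fintype F] {p : ℕ} [Fact p.Prime]

/-- three elements told apart by the multiplicities -/
theorem krow_of_ev {n : ℕ} (hn : 2 ≤ n) (hX : ¬ HasNormalPComplement p (Matrix.ProjectiveSpecialLinearGroup (Fin n) F))
    (D : Fin 3 → Fin n → Fˣ) (h : ∀ i, ∏ j, D i j = 1) (wt : Fin 3 → ℕ)
    (hD : ∀ i j, D i j ^ p ^ 1 = 1) (hne : ∀ i, ∃ j k, D i j ≠ D i k) (M : Fin 3 → ℕ → Prop)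
    (hM : ∀ i k, 1 ≤ k → (EV (zD (D i) (h i) : Matrix (Fin n) (Fin n) F) k ↔ M i k))
    (h01 : ¬ ∀ k, 1 ≤ k → (M 0 k ↔ M 1 k)) (h02 : ¬ ∀ k, 1 ≤ k → (M 0 k ↔ M 2 k)) (h12 : ¬ ∀ k, 1 ≤ k → (M 1 k ↔ M 2 k))
    (hw : ∀ i, WtGe.{u, 0} p (pr (zD (D i) (h i))) (wt i)) (h5 : 5 ≤ ∑ i, wt i) :
    KRow.{u, 0} p (Matrix.ProjectiveSpecialLinearGroup (Fin n) F) := by
  refine krow_of_fin hX (fun i => pr (zD (D i) (h i))) wt (fun i => ?_) (fun i j α hα => ?_) hw h5
  · obtain ⟨j, k, hjk⟩ := hne i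
    exact el_zD (h i) (hD i) hjk
  · have key : ∀ k, 1 ≤ k → (M i k ↔ M j k) := by
      intro k hk
      rw [← hM i k hk, ← hM j k hk]
      exact ev_iff hn α hα k
    fin_cases i <;> fin_cases j
    · rfl
    · exact absurd key h01
    · exact absurd key h02
    · exact absurd (fun k hk => (key k hk).symm) h01
    · rfl
    · exact absurd key h12
    · exact absurd (fun k hk => (key k hk).symm) h02
    · exact absurd (fun k hk => (key k hk).symm) h12
    · rfl

/-- **`n ≥ 4`, `p ∣ q - 1`** -/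
theorem krow_diag {n : ℕ} (hn : 4 ≤ n) (hp2 : p ≠ 2) (hq : p ∣ Nat.card F - 1) :
    KRow.{u, 0} p (Matrix.ProjectiveSpecialLinearGroup (Fin n) F) := by
  classical
  have hp : p.Prime := Fact.out
  have hp3 : 3 ≤ p := by have := hp.two_le; omega
  obtain ⟨w, hw⟩ := exists_prime_orderOf_dvd_card' (G := Fˣ) p (by rwa [Nat.card_units])
  obtain ⟨m, rfl⟩ : ∃ m, n = m + 4 := ⟨n - 4, by omega⟩
  have hwp : w ^ p ^ 1 = 1 := by rw [pow_one, ← hw, pow_orderOf_eq_one]
  have hwi : (w⁻¹) ^ p ^ 1 = 1 := by rw [inv_pow, hwp, inv_one]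
  have hz : ∀ {k : ℤ}, ¬ (p : ℤ) ∣ k → w ^ k ≠ 1 := by
    intro k hk h
    exact hk (by rw [← hw]; exact orderOf_dvd_iff_zpow_eq_one.2 h)
  have hsmall : ∀ k : ℤ, 0 < k → k < p → ¬ (p : ℤ) ∣ k := by
    intro k hk hkp h
    have := Int.le_of_dvd hk h
    omega
  have hw1 : w ≠ 1 := by
    have := hz (hsmall 1 (by norm_num) (by omega))
    rwa [zpow_one] at this
  have hwi1 : w⁻¹ ≠ 1 := inv_ne_one.2 hw1
  have hww : w ≠ w⁻¹ := by
    intro h
    apply hz (hsmall 2 (by norm_num) (by omega))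
    have h1 : w * w = 1 := by nth_rewrite 1 [h]; exact inv_mul_cancel w
    rw [show (2 : ℤ) = ((2 : ℕ) : ℤ) from rfl, zpow_natCast, pow_two, h1]
  have e1 : (w : F) ≠ 1 := fun h => hw1 (Units.ext h)
  have e2 : ((w⁻¹ : Fˣ) : F) ≠ 1 := fun h => hwi1 (Units.ext h)
  have e3 : (w : F) ≠ ((w⁻¹ : Fˣ) : F) := fun h => hww (Units.ext h)
  let j0 : Fin (m + 4) := ⟨0, by omega⟩
  let j1 : Fin (m + 4) := ⟨1, by omega⟩
  let j2 : Fin (m + 4) := ⟨2, by omega⟩
  let j3 : Fin (m + 4) := ⟨3, by omega⟩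
  have f0 : j0 ≠ j1 := fun h => (by decide : (0 : ℕ) ≠ 1) (congrArg Fin.val h)
  have f02 : j0 ≠ j2 := fun h => (by decide : (0 : ℕ) ≠ 2) (congrArg Fin.val h)
  have f12 : j1 ≠ j2 := fun h => (by decide : (1 : ℕ) ≠ 2) (congrArg Fin.val h)
  have f23 : j2 ≠ j3 := fun h => (by decide : (2 : ℕ) ≠ 3) (congrArg Fin.val h)
  have f03 : j0 ≠ j3 := fun h => (by decide : (0 : ℕ) ≠ 3) (congrArg Fin.val h)
  have hX := not_compl_zD (F := F) hw hp2 f0 f02 f12
  have p1 : w * w⁻¹ * 1 * 1 = 1 := by rw [mul_inv_cancel, mul_one, mul_one]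
  have p3 : w * w * w⁻¹ * w⁻¹ = 1 := by rw [mul_inv_cancel_right, mul_inv_cancel]
  by_cases h3 : p = 3
  · -- `p = 3`
    have hw3 : w ^ 3 = 1 := by rw [← h3, ← hw, pow_orderOf_eq_one]
    have p2 : w * w * w * 1 = 1 := by rw [mul_one, ← hw3, pow_succ, pow_succ, pow_one]
    refine krow_of_ev (by omega) hX ![vec4 m w w⁻¹ 1 1, vec4 m w w w 1, vec4 m w w w⁻¹ w⁻¹] ?_ ![2, 2, 2] ?_ ?_
      ![fun k => k = m + 2 ∨ k = 1, fun k => k = m + 1 ∨ k = 3, fun k => k = m ∨ k = 2] ?_ ?_ ?_ ?_ ?_ (by decide)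
    · intro i
      fin_cases i
      · exact prod_vec4 m p1
      · exact prod_vec4 m p2
      · exact prod_vec4 m p3
    · intro i
      fin_cases i
      · exact vec4_forall (P := fun x : Fˣ => x ^ p ^ 1 = 1) hwp hwi (one_pow _) (one_pow _) (one_pow _)
      · exact vec4_forall (P := fun x : Fˣ => x ^ p ^ 1 = 1) hwp hwp hwp (one_pow _) (one_pow _)
      · exact vec4_forall (P := fun x : Fˣ => x ^ p ^ 1 = 1) hwp hwp hwi hwi (one_pow _)
    · intro i
      fin_cases i
      · exact ⟨j0, j2, hw1⟩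
      · exact ⟨j0, j3, hw1⟩
      · exact ⟨j0, j2, hww⟩
    · intro i k hk
      fin_cases i
      · exact ev_one e1 e2 e3 _ hk
      · exact ev_two e1 _ hk
      · exact ev_three e1 e2 e3 _ hk
    · intro h
      have a1 := h 1 le_rfl
      have a3 := h 3 (by norm_num)
      change (1 = m + 2 ∨ 1 = 1) ↔ (1 = m + 1 ∨ 1 = 3) at a1
      change (3 = m + 2 ∨ 3 = 1) ↔ (3 = m + 1 ∨ 3 = 3) at a3
      omega
    · intro h
      have a1 := h 1 le_rfl
      have a3 := h 2 (by norm_num)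
      change (1 = m + 2 ∨ 1 = 1) ↔ (1 = m ∨ 1 = 2) at a1
      change (2 = m + 2 ∨ 2 = 1) ↔ (2 = m ∨ 2 = 2) at a3
      omega
    · intro h
      have a1 := h 3 (by norm_num)
      have a3 := h 2 (by norm_num)
      change (3 = m + 1 ∨ 3 = 3) ↔ (3 = m ∨ 3 = 2) at a1
      change (2 = m + 1 ∨ 2 = 3) ↔ (2 = m ∨ 2 = 2) at a3
      omega
    · intro i
      fin_cases i
      · exact wt_two_zD hw hp2 _ f23 f02.symm f03.symm rfl
      · exact wt_two_zD hw hp2 _ f0 f02 f12 rfl
      · exact wt_two_zD hw hp2 _ f0 f02 f12 rfl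
  have hp5 : 5 ≤ p := by
    by_contra hcon
    have h4 : p = 4 := by omega
    rw [h4] at hp
    exact absurd hp (by decide)
  by_cases hm : m = 1
  · -- `n = 5`
    subst hm
    by_cases h5 : p = 5
    · have hz2 : ∀ i j : ℤ, 0 < i - j → i - j < 5 → ((w ^ j : Fˣ) : F) ≠ ((w ^ i : Fˣ) : F) := by
        intro i j h1 h2
        exact (val_ne hw (hsmall _ h1 (by rw [h5]; exact h2))).symm
      have q2 : w ^ (0 : ℤ) * w ^ (1 : ℤ) * w ^ (2 : ℤ) * w ^ (3 : ℤ) * w ^ (4 : ℤ) = 1 := by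
        rw [← zpow_add, ← zpow_add, ← zpow_add, ← zpow_add]
        rw [show (0 + 1 + 2 + 3 + 4 : ℤ) = ((p * 2 : ℕ) : ℤ) by rw [h5]; norm_num, zpow_natCast, pow_mul, ← hw,
          pow_orderOf_eq_one, one_pow]
      have hzp : ∀ k : ℤ, (w ^ k) ^ p ^ 1 = 1 := by
        intro k
        rw [← zpow_natCast, ← zpow_mul, mul_comm, zpow_mul, zpow_natCast, hwp, one_zpow]
      refine krow_of_ev (n := 5) (by omega) hX
        ![vec4 1 w w⁻¹ 1 1, vec5 (w ^ (0 : ℤ)) (w ^ (1 : ℤ)) (w ^ (2 : ℤ)) (w ^ (3 : ℤ)) (w ^ (4 : ℤ)), vec4 1 w w w⁻¹ w⁻¹] ?_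
        ![2, 1, 2] ?_ ?_
        ![fun k => k = 1 + 2 ∨ k = 1, fun k => k = 1, fun k => k = 1 ∨ k = 2] ?_ ?_ ?_ ?_ ?_ (by decide)
      · intro i
        fin_cases i
        · exact prod_vec4 1 p1
        · exact prod_vec5 q2
        · exact prod_vec4 1 p3
      · intro i
        fin_cases i
        · exact vec4_forall (P := fun x : Fˣ => x ^ p ^ 1 = 1) hwp hwi (one_pow _) (one_pow _) (one_pow _)
        · exact vec5_forall (P := fun x : Fˣ => x ^ p ^ 1 = 1) (hzp _) (hzp _) (hzp _) (hzp _) (hzp _)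
        · exact vec4_forall (P := fun x : Fˣ => x ^ p ^ 1 = 1) hwp hwp hwi hwi (one_pow _)
      · intro i
        fin_cases i
        · exact ⟨j0, j2, hw1⟩
        · refine ⟨0, 1, fun h => ?_⟩
          exact hz2 1 0 (by norm_num) (by norm_num) (congrArg Units.val h)
        · exact ⟨j0, j2, hww⟩
      · intro i k hk
        fin_cases i
        · exact ev_one (m := 1) e1 e2 e3 _ hk
        · exact ev_five (hz2 1 0 (by norm_num) (by norm_num)) (hz2 2 0 (by norm_num) (by norm_num))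
            (hz2 3 0 (by norm_num) (by norm_num)) (hz2 4 0 (by norm_num) (by norm_num))
            (hz2 2 1 (by norm_num) (by norm_num)) (hz2 3 1 (by norm_num) (by norm_num))
            (hz2 4 1 (by norm_num) (by norm_num)) (hz2 3 2 (by norm_num) (by norm_num))
            (hz2 4 2 (by norm_num) (by norm_num)) (hz2 4 3 (by norm_num) (by norm_num)) _ hk
        · exact ev_three (m := 1) e1 e2 e3 _ hk
      · intro h
        have a1 := h 3 (by norm_num)
        change (3 = 1 + 2 ∨ 3 = 1) ↔ 3 = 1 at a1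
        omega
      · intro h
        have a3 := h 2 (by norm_num)
        change (2 = 1 + 2 ∨ 2 = 1) ↔ (2 = 1 ∨ 2 = 2) at a3
        omega
      · intro h
        have a3 := h 2 (by norm_num)
        change (2 = 1) ↔ (2 = 1 ∨ 2 = 2) at a3
        omega
      · intro i
        fin_cases i
        · exact wt_two_zD hw hp2 _ f23 f02.symm f03.symm rfl
        · exact wtGe_one _
        · exact wt_two_zD hw hp2 _ f0 f02 f12 rfl
    · have hww4 : w ≠ (w ^ 4)⁻¹ := by
        intro h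
        apply hz (hsmall 5 (by norm_num) (by omega))
        have h1 : w * w ^ 4 = 1 := by nth_rewrite 1 [h]; exact inv_mul_cancel _
        rw [show (5 : ℤ) = ((5 : ℕ) : ℤ) from rfl, zpow_natCast, ← h1, ← pow_succ']
      have q2 : w * w * w * w * (w ^ 4)⁻¹ = 1 := by
        rw [mul_inv_eq_one, pow_succ, pow_succ, pow_succ, pow_one]
      have hwi4 : ((w ^ 4)⁻¹) ^ p ^ 1 = 1 := by
        rw [inv_pow, ← pow_mul, mul_comm, pow_mul, hwp, one_pow, inv_one]
      refine krow_of_ev (n := 5) (by omega) hX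
        ![vec4 1 w w⁻¹ 1 1, vec5 w w w w (w ^ 4)⁻¹, vec4 1 w w w⁻¹ w⁻¹] ?_ ![2, 2, 2] ?_ ?_
        ![fun k => k = 1 + 2 ∨ k = 1, fun k => k = 4 ∨ k = 1, fun k => k = 1 ∨ k = 2] ?_ ?_ ?_ ?_ ?_ (by decide)
      · intro i
        fin_cases i
        · exact prod_vec4 1 p1
        · exact prod_vec5 q2
        · exact prod_vec4 1 p3
      · intro i
        fin_cases i
        · exact vec4_forall (P := fun x : Fˣ => x ^ p ^ 1 = 1) hwp hwi (one_pow _) (one_pow _) (one_pow _)
        · exact vec5_forall (P := fun x : Fˣ => x ^ p ^ 1 = 1) hwp hwp hwp hwp hwi4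
        · exact vec4_forall (P := fun x : Fˣ => x ^ p ^ 1 = 1) hwp hwp hwi hwi (one_pow _)
      · intro i
        fin_cases i
        · exact ⟨j0, j2, hw1⟩
        · exact ⟨0, 4, hww4⟩
        · exact ⟨j0, j2, hww⟩
      · intro i k hk
        fin_cases i
        · exact ev_one (m := 1) e1 e2 e3 _ hk
        · exact ev_four (fun h => hww4 (Units.ext h)) _ hk
        · exact ev_three (m := 1) e1 e2 e3 _ hk
      · intro h
        have a1 := h 3 (by norm_num)
        change (3 = 1 + 2 ∨ 3 = 1) ↔ (3 = 4 ∨ 3 = 1) at a1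
        omega
      · intro h
        have a3 := h 2 (by norm_num)
        change (2 = 1 + 2 ∨ 2 = 1) ↔ (2 = 1 ∨ 2 = 2) at a3
        omega
      · intro h
        have a3 := h 2 (by norm_num)
        change (2 = 4 ∨ 2 = 1) ↔ (2 = 1 ∨ 2 = 2) at a3
        omega
      · intro i
        fin_cases i
        · exact wt_two_zD hw hp2 _ f23 f02.symm f03.symm rfl
        · exact wt_two_zD hw hp2 _ f0 f02 f12 rfl
        · exact wt_two_zD hw hp2 _ f0 f02 f12 rfl
  · -- `p ≥ 5`, `n ≠ 5`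
    have hw3 : (w ^ 3)⁻¹ ≠ 1 := by
      intro h
      apply hz (hsmall 3 (by norm_num) (by omega))
      rw [show (3 : ℤ) = ((3 : ℕ) : ℤ) from rfl, zpow_natCast]
      exact inv_eq_one.1 h
    have hww3 : w ≠ (w ^ 3)⁻¹ := by
      intro h
      apply hz (hsmall 4 (by norm_num) (by omega))
      have h1 : w * w ^ 3 = 1 := by nth_rewrite 1 [h]; exact inv_mul_cancel _
      rw [show (4 : ℤ) = ((4 : ℕ) : ℤ) from rfl, zpow_natCast, ← h1, ← pow_succ']
    have q2 : w * w * w * (w ^ 3)⁻¹ = 1 := by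
      rw [mul_inv_eq_one, pow_succ, pow_succ, pow_one]
    have hwi3 : ((w ^ 3)⁻¹) ^ p ^ 1 = 1 := by
      rw [inv_pow, ← pow_mul, mul_comm, pow_mul, hwp, one_pow, inv_one]
    refine krow_of_ev (by omega) hX ![vec4 m w w⁻¹ 1 1, vec4 m w w w (w ^ 3)⁻¹, vec4 m w w w⁻¹ w⁻¹] ?_ ![2, 2, 2] ?_ ?_
      ![fun k => k = m + 2 ∨ k = 1, fun k => k = m ∨ k = 3 ∨ k = 1, fun k => k = m ∨ k = 2] ?_ ?_ ?_ ?_ ?_ (by decide)
    · intro i
      fin_cases i
      · exact prod_vec4 m p1
      · exact prod_vec4 m q2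
      · exact prod_vec4 m p3
    · intro i
      fin_cases i
      · exact vec4_forall (P := fun x : Fˣ => x ^ p ^ 1 = 1) hwp hwi (one_pow _) (one_pow _) (one_pow _)
      · exact vec4_forall (P := fun x : Fˣ => x ^ p ^ 1 = 1) hwp hwp hwp hwi3 (one_pow _)
      · exact vec4_forall (P := fun x : Fˣ => x ^ p ^ 1 = 1) hwp hwp hwi hwi (one_pow _)
    · intro i
      fin_cases i
      · exact ⟨j0, j2, hw1⟩
      · exact ⟨j0, j3, hww3⟩
      · exact ⟨j0, j2, hww⟩
    · intro i k hk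
      fin_cases i
      · exact ev_one e1 e2 e3 _ hk
      · exact ev_two' e1 (fun h => hw3 (Units.ext h)) (fun h => hww3 (Units.ext h)) _ hk
      · exact ev_three e1 e2 e3 _ hk
    · intro h
      have a3 := h 3 (by norm_num)
      change (3 = m + 2 ∨ 3 = 1) ↔ (3 = m ∨ 3 = 3 ∨ 3 = 1) at a3
      omega
    · intro h
      have a1 := h 1 le_rfl
      have a3 := h 2 (by norm_num)
      change (1 = m + 2 ∨ 1 = 1) ↔ (1 = m ∨ 1 = 2) at a1
      change (2 = m + 2 ∨ 2 = 1) ↔ (2 = m ∨ 2 = 2) at a3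
      omega
    · intro h
      have a1 := h 1 le_rfl
      change (1 = m ∨ 1 = 3 ∨ 1 = 1) ↔ (1 = m ∨ 1 = 2) at a1
      omega
    · intro i
      fin_cases i
      · exact wt_two_zD hw hp2 _ f23 f02.symm f03.symm rfl
      · exact wt_two_zD hw hp2 _ f0 f02 f12 rfl
      · exact wt_two_zD hw hp2 _ f0 f02 f12 rfl

end row

end Cfsg.Agent.H734.K6
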