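import Cfsg.Agent.H734.K6.RowD
import Cfsg.Agent.H349.K6.CritQ
import Cfsg.Agent.H845.KB.AbPsl

/-!
# S4876: `PSL_3(q)`, `p ∣ q - 1` (helper734)

* `krow_three_five` : `p ≥ 5`, criterion Q (helper349);
* `krow_three_three` : `p = 3`, `9 ∣ q - 1`.
-/

set_option autoImplicit false
set_option linter.unusedSectionVars false

open Cfsg Module

namespace Cfsg.Agent.H734.K6

open Cfsg.Agent.H734.KB Cfsg.Agent.H61.K6
open Cfsg.Agent.ClassicalGeometry.AutPSL.Root

universe u v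

section conj

variable {F : Type} [Field F] [Fintype F] {n : ℕ}

open Classical in
/-- conjugate diagonal elements of `PSL` -/
theorem conj_zD (hn : 0 < n) {D E : Fin n → Fˣ} {h : ∏ j, D j = 1} {h' : ∏ j, E j = 1}
    (hc : IsConj (pr (zD D h)) (pr (zD E h'))) : ∃ c : Fˣ, ∀ μ : F,
      (Finset.univ.filter fun j => ((c * D j : Fˣ) : F) = μ).card = (Finset.univ.filter fun j => (E j : F) = μ).card := by
  obtain ⟨g, hg⟩ := isConj_iff.1 hc
  obtain ⟨g, rfl⟩ := QuotientGroup.mk'_surjective _ g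
  have h1 : pr (g * zD D h * g⁻¹) = pr (zD E h') := by
    rw [map_mul, map_mul, map_inv]
    exact hg
  obtain ⟨c, hc⟩ := exists_smul_of_pr_eq h1
  have hc0 : c ≠ 0 := by
    rintro rfl
    have h3 := (zD E h').2
    have h4 : Nonempty (Fin n) := ⟨⟨0, hn⟩⟩
    rw [hc, zero_smul, Matrix.det_zero] at h3
    exact zero_ne_one h3
  refine ⟨Units.mk0 c hc0, fun μ => ?_⟩
  let C : (Matrix (Fin n) (Fin n) F)ˣ :=
    ⟨g, (g⁻¹ : Matrix.SpecialLinearGroup (Fin n) F), by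
      rw [← Matrix.SpecialLinearGroup.coe_mul, mul_inv_cancel, Matrix.SpecialLinearGroup.coe_one], by
      rw [← Matrix.SpecialLinearGroup.coe_mul, inv_mul_cancel, Matrix.SpecialLinearGroup.coe_one]⟩
  refine count_eq (C := C) ?_ μ
  have h2 : Matrix.diagonal (fun j => ((Units.mk0 c hc0 * D j : Fˣ) : F)) = c • (zD D h : Matrix (Fin n) (Fin n) F) := by
    rw [zD_val, ← Matrix.diagonal_smul]
    rfl
  rw [h2, Matrix.mul_smul, Matrix.smul_mul]
  rw [Matrix.SpecialLinearGroup.coe_mul, Matrix.SpecialLinearGroup.coe_mul, zD_val E] at hc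
  exact hc.symm

/-- the diagonal `(a, b, c)` -/
def vec3 (a b c : Fˣ) : Fin 3 → Fˣ := Fin.cons a (Fin.cons b fun _ => c)

theorem prod_vec3 {a b c : Fˣ} (h : a * b * c = 1) : ∏ j, vec3 a b c j = 1 := by
  rw [Fin.prod_univ_succ, Fin.prod_univ_succ, Fin.prod_univ_one]
  simp only [vec3, Fin.cons_zero, Fin.cons_succ]
  rw [← mul_assoc, h]

theorem vec3_forall {a b c : Fˣ} {P : Fˣ → Prop} (ha : P a) (hb : P b) (hc : P c) : ∀ j, P (vec3 a b c j) := by
  intro j
  fin_cases j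
  · exact ha
  · exact hb
  · exact hc

open Classical in
theorem count_vec3 (a b c : Fˣ) (t : F) :
    (Finset.univ.filter fun j => (vec3 a b c j : F) = t).card =
      (if (a : F) = t then 1 else 0) + (if (b : F) = t then 1 else 0) + (if (c : F) = t then 1 else 0) := by
  rw [Finset.card_filter, Fin.sum_univ_succ, Fin.sum_univ_succ, Fin.sum_univ_one]
  simp only [vec3, Fin.cons_zero, Fin.cons_succ]
  omega

open Classical in
theorem conj_vec3 {a b c a' b' c' : Fˣ} {h : ∏ j, vec3 a b c j = 1} {h' : ∏ j, vec3 a' b' c' j = 1}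
    (hc : IsConj (pr (zD (vec3 a b c) h)) (pr (zD (vec3 a' b' c') h'))) : ∃ l : Fˣ, ∀ μ : F,
      (if ((l * a : Fˣ) : F) = μ then 1 else 0) + (if ((l * b : Fˣ) : F) = μ then 1 else 0) +
        (if ((l * c : Fˣ) : F) = μ then 1 else 0) =
      (if (a' : F) = μ then 1 else 0) + (if (b' : F) = μ then 1 else 0) + (if (c' : F) = μ then 1 else 0) := by
  obtain ⟨l, hl⟩ := conj_zD (by norm_num) hc
  refine ⟨l, fun μ => ?_⟩
  have h1 := hl μ
  rw [count_vec3] at h1
  rw [← h1, ← count_vec3]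
  refine congrArg Finset.card (Finset.filter_congr fun j _ => ?_)
  fin_cases j <;> rfl

/-- `(a, a, b)` -/
theorem ratio_of_conj {a b a' b' : Fˣ} {h : ∏ j, vec3 a a b j = 1} {h' : ∏ j, vec3 a' a' b' j = 1}
    (hab' : a' ≠ b')
    (hc : IsConj (pr (zD (vec3 a a b) h)) (pr (zD (vec3 a' a' b') h'))) : a * b⁻¹ = a' * b'⁻¹ := by
  classical
  obtain ⟨l, hl⟩ := conj_vec3 hc
  have e1 : (a' : F) ≠ b' := fun h => hab' (Units.ext h)
  have h1 : ((l * a : Fˣ) : F) = a' := by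
    by_contra hcon
    have h2 := hl a'
    rw [if_neg hcon, if_pos rfl, if_neg e1.symm] at h2
    split_ifs at h2 <;> omega
  have h2 : ((l * b : Fˣ) : F) = b' := by
    by_contra hcon
    have h2 := hl b'
    rw [if_neg hcon, if_pos rfl, if_neg e1, h1, if_neg e1] at h2
    omega
  have h3 : l * a = a' := Units.ext h1
  have h4 : l * b = b' := Units.ext h2
  rw [← h3, ← h4, mul_inv_rev]
  rw [mul_comm b⁻¹ l⁻¹, ← mul_assoc, mul_comm l a, mul_inv_cancel_right]

end conj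

section five

variable {F : Type} [Field F] [Fintype F] {p : ℕ} [Fact p.Prime]

/-- **`n = 3`, `p ≥ 5`** -/
theorem krow_three_five [hs : IsSimpleGroup (Matrix.ProjectiveSpecialLinearGroup (Fin 3) F)] (h5 : 5 ≤ p)
    (hq : p ∣ Nat.card F - 1) :
    KRow.{u, 0} p (Matrix.ProjectiveSpecialLinearGroup (Fin 3) F) := by
  classical
  have hp : p.Prime := Fact.out
  have hp2 : p ≠ 2 := by omega
  obtain ⟨w, hw⟩ := exists_prime_orderOf_dvd_card' (G := Fˣ) p (by rwa [Nat.card_units])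
  have hwp : w ^ p ^ 1 = 1 := by rw [pow_one, ← hw, pow_orderOf_eq_one]
  let D : ℕ → Fin 3 → Fˣ := fun i => vec3 (w ^ i) (w ^ i) (w ^ (2 * i))⁻¹
  have hD : ∀ i, ∏ j, D i j = 1 := fun i => prod_vec3 (by rw [mul_inv_eq_one, two_mul, pow_add])
  have hne : ∀ i, 1 ≤ i → i ≤ 4 → w ^ i ≠ (w ^ (2 * i))⁻¹ := by
    intro i h1 h4 h
    have h2 : w ^ (3 * i) = 1 := by
      rw [show 3 * i = i + 2 * i by ring, pow_add]
      nth_rewrite 1 [h]
      rw [inv_mul_cancel]
    have h3 := orderOf_dvd_of_pow_eq_one h2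
    rw [hw] at h3
    rcases (Nat.Prime.dvd_mul hp).1 h3 with h6 | h6
    · have := Nat.le_of_dvd (by norm_num) h6
      omega
    · have := Nat.le_of_dvd (by omega) h6
      omega
  have f01 : (0 : Fin 3) ≠ 1 := by decide
  have f02 : (0 : Fin 3) ≠ 2 := by decide
  have f12 : (1 : Fin 3) ≠ 2 := by decide
  have hconj : ∀ i j, 1 ≤ i → i ≤ 4 → 1 ≤ j → j ≤ 4 → IsConj (pr (zD (D i) (hD i))) (pr (zD (D j) (hD j))) → i = j := by
    intro i j hi1 hi4 hj1 hj4 h
    have h1 := ratio_of_conj (hne j hj1 hj4) h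
    rw [inv_inv, inv_inv, ← pow_add, ← pow_add, pow_eq_pow_iff_modEq, hw] at h1
    have key : ∀ i j : ℕ, 1 ≤ i → j ≤ 4 → i < j → ¬ (i + 2 * i ≡ j + 2 * j [MOD p]) := by
      intro i j hi1 hj4 hij h
      have h2 := (Nat.modEq_iff_dvd' (by omega)).1 h
      rw [show j + 2 * j - (i + 2 * i) = 3 * (j - i) by omega] at h2
      rcases (Nat.Prime.dvd_mul hp).1 h2 with h6 | h6
      · have := Nat.le_of_dvd (by norm_num) h6
        omega
      · have := Nat.le_of_dvd (by omega) h6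
        omega
    rcases lt_trichotomy i j with h3 | h3 | h3
    · exact absurd h1 (key i j hi1 hj4 h3)
    · exact h3
    · exact absurd h1.symm (key j i hj1 hi4 h3)
  have hpF : (p : F) ≠ 0 := by
    intro h1
    have h2 : p ∣ Nat.card F := by
      obtain ⟨r, hr⟩ := CharP.exists F
      have h3 := (CharP.cast_eq_zero_iff F r p).1 h1
      have hrp : r.Prime := by
        have : Fact r.Prime := CharP.char_is_prime_or_zero F r |>.elim (fun h => ⟨h⟩) fun h => by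
          subst h
          exact absurd (CharP.charP_to_charZero F) (by
            intro h
            exact not_finite F)
        exact this.out
      have h4 : r = p := (Nat.prime_dvd_prime_iff_eq hrp hp).1 h3
      subst h4
      have : Fact r.Prime := ⟨hp⟩
      obtain ⟨n, -, hn⟩ := FiniteField.card F r
      rw [Nat.card_eq_fintype_card, hn]
      exact dvd_pow_self r n.pos.ne'
    have h3 : p ∣ 1 := by
      have h4 := (Nat.dvd_sub h2 hq)
      have hpos : 0 < Nat.card F := Nat.card_pos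
      rwa [Nat.sub_sub_self (by omega)] at h4
    exact hp.one_lt.ne' (Nat.dvd_one.1 h3)
  obtain ⟨y, c, -, -, -, hyc⟩ := yc_data (F := F) (n := 3) hw hp2 f01 f02 f12
  have hel : ∀ i, 1 ≤ i → i ≤ 4 → El p (pr (zD (D i) (hD i))) := by
    intro i h1 h4
    refine el_zD (s := 1) (hD i) (vec3_forall (P := fun x : Fˣ => x ^ p ^ 1 = 1) ?_ ?_ ?_) (i := 0) (j := 2) (hne i h1 h4)
    · rw [← pow_mul, mul_comm, pow_mul, hwp, one_pow]
    · rw [← pow_mul, mul_comm, pow_mul, hwp, one_pow]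
    · rw [inv_pow, ← pow_mul, mul_comm, pow_mul, hwp, one_pow, inv_one]
  have hpd : p ∣ Nat.card (Matrix.ProjectiveSpecialLinearGroup (Fin 3) F) := by
    obtain ⟨⟨k, hk⟩, hk1⟩ := hel 1 le_rfl (by norm_num)
    have h1 : k ≠ 0 := by
      rintro rfl
      rw [pow_zero, orderOf_eq_one_iff] at hk
      exact hk1 hk
    exact (dvd_pow_self p h1).trans (hk ▸ orderOf_dvd_natCard _)
  refine H349.K6.KRow.of_ab ⟨c, y, hyc⟩ hpd ?_ ((Finset.Icc 1 4).image fun i => pr (zD (D i) (hD i))) ?_ ?_ ?_ ?_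
  · intro K _ _ _ ⟨e⟩
    obtain ⟨r, hr⟩ := CharP.exists F
    have hrp : Fact r.Prime := CharP.char_is_prime_or_zero F r |>.elim (fun h => ⟨h⟩) fun h => by
      subst h
      exact absurd (CharP.charP_to_charZero F) (by
        intro h
        exact not_finite F)
    refine H845.KB.ab_psl p K (r := r) ?_ h5 ⟨F, inferInstance, inferInstance, hr, 3, by norm_num, ?_, ⟨e⟩⟩
    · rintro rfl
      exact hpF (CharP.cast_eq_zero F r)
    · intro h
      exact absurd h (by norm_num)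
  · intro x hx
    obtain ⟨i, hi, rfl⟩ := Finset.mem_image.1 hx
    have := Finset.mem_Icc.1 hi
    exact hel i this.1 this.2
  · intro x hx y hy hxy
    obtain ⟨i, hi, rfl⟩ := Finset.mem_image.1 hx
    obtain ⟨j, hj, rfl⟩ := Finset.mem_image.1 hy
    have h1 := Finset.mem_Icc.1 hi
    have h2 := Finset.mem_Icc.1 hj
    rw [hconj i j h1.1 h1.2 h2.1 h2.2 hxy]
  · intro x hx
    obtain ⟨i, hi, rfl⟩ := Finset.mem_image.1 hx
    obtain ⟨y, c, h1, h2, h3, h4⟩ := yc_data (F := F) (n := 3) hw hp2 f01 f02 f12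
    obtain ⟨h5, h6⟩ := h1 (D i) (hD i) rfl
    refine not_compl (y := (⟨y, Subgroup.mem_centralizer_singleton_iff.2 h5⟩ :
      ↥(Subgroup.centralizer ({pr (zD (D i) (hD i))} : Set (Matrix.ProjectiveSpecialLinearGroup (Fin 3) F)))))
      (c := ⟨c, Subgroup.mem_centralizer_singleton_iff.2 h6⟩) (k := p - 1) (Subtype.ext ?_) (Subtype.ext ?_) fun h1 => h4 ?_
    · exact h2
    · exact h3
    · exact congrArg Subtype.val h1
  · rw [Finset.card_image_of_injOn]
    · simp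
    · intro i hi j hj hij
      have h1 := Finset.mem_Icc.1 hi
      have h2 := Finset.mem_Icc.1 hj
      refine hconj i j h1.1 h1.2 h2.1 h2.2 ?_
      simp only at hij
      rw [hij]

end five

section crit

/-- criterion W, with conjugacy in the overgroup -/
theorem krow_of_fin' {p : ℕ} {X : Type v} [Group X] [Finite X] (hX : ¬ HasNormalPComplement p X) {m : ℕ} (x : Fin m → X)
    (w : Fin m → ℕ) (hx : ∀ i, El p (x i))
    (hinj : ∀ i j, i ≠ j → ∀ (G : Type u) [Group G] [Finite G] (K : Subgroup G) (f : X ≃* K), K.Normal → ¬ p ∣ K.index →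
      ¬ IsConj ((f (x i) : K) : G) ((f (x j) : K) : G))
    (hw : ∀ i, WtGe.{u, v} p (x i) (w i)) (hn : 5 ≤ ∑ i, w i) : KRow.{u, v} p X := by
  classical
  intro M G _ _ K hS
  have : Fact p.Prime := ⟨hS.prime⟩
  obtain ⟨f⟩ := hS.iso
  have hK := hS.normal
  set y : Fin m → G := fun i => ((f (x i) : K) : G) with hy
  have hyi : Function.Injective y := by
    intro i j h
    by_contra hij
    refine hinj i j hij G K f hK hS.ndvd ?_
    change IsConj (y i) (y j)
    rw [h]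
  have hy1 : ∀ i, y i ≠ 1 := fun i h => (hx i).2 (f.injective (Subtype.ext (by rw [map_one]; exact h)))
  have h1 : (1 : G) ∉ Finset.univ.image y := by
    intro h
    obtain ⟨i, -, hi⟩ := Finset.mem_image.1 h
    exact hy1 i hi
  have h2 := H634.TwoA.sum_rank_le hS.modular (insert 1 (Finset.univ.image y))
    (by
      intro z hz
      rcases Finset.mem_insert.1 hz with rfl | hz
      · exact ⟨0, by simp⟩
      · obtain ⟨i, -, rfl⟩ := Finset.mem_image.1 hz
        obtain ⟨k, hk⟩ := (hx i).1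
        exact ⟨k, by rw [hy]; simp only; rw [Subgroup.orderOf_coe, MulEquiv.orderOf_eq, hk]⟩)
    (by
      intro z hz z' hz' h
      rcases Finset.mem_insert.1 hz with rfl | hz
      · exact (isConj_one_right.1 h).symm
      rcases Finset.mem_insert.1 hz' with rfl | hz'
      · exact isConj_one_right.1 h.symm
      obtain ⟨i, -, rfl⟩ := Finset.mem_image.1 hz
      obtain ⟨j, -, rfl⟩ := Finset.mem_image.1 hz'
      by_contra hne
      exact hinj i j (fun h => hne (by rw [h])) G K f hK hS.ndvd h)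
  rw [Finset.sum_insert h1, Finset.sum_image fun i _ j _ h => hyi h] at h2
  have h3 := wtGe_one_two.{u, v} hX M G K f hS
  have h4 : ((f 1 : K) : G) = 1 := by rw [map_one]; rfl
  rw [h4] at h3
  have h5 := Finset.sum_le_sum fun (i : Fin m) (_ : i ∈ Finset.univ) => hw i M G K f hS
  have h6 : ∑ i, blockRank p (principalBlock M ↥(Subgroup.centralizer ({((f (x i) : K) : G)} : Set G))) =
      ∑ i, blockRank p (principalBlock M ↥(Subgroup.centralizer ({y i} : Set G))) := rfl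
  rw [h6] at h5
  omega

/-- elements of order 9, up to `3'`-automorphisms -/
theorem not_conj_sq {X : Type v} [Group X] {G : Type u} [Group G] [Finite G] (K : Subgroup G) (f : X ≃* K) (hK : K.Normal)
    (h3 : ¬ 3 ∣ K.index) {x : X} (hx9 : x ^ 9 = 1) (h4 : ¬ IsConj x (x ^ 4)) (h7 : ¬ IsConj x (x ^ 7)) :
    ¬ IsConj ((f x : K) : G) ((f (x ^ 2) : K) : G) := by
  intro hc
  obtain ⟨g, hg⟩ := isConj_iff.1 hc
  have hg' : g * ((f x : K) : G) * g⁻¹ = ((f x : K) : G) ^ 2 := by rw [hg, map_pow, Subgroup.coe_pow]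
  obtain ⟨a, b, hb, hN⟩ := Nat.exists_eq_pow_mul_and_not_dvd (n := orderOf g) (orderOf_pos g).ne' 3 (by norm_num)
  have h1 := conj_pow_pow hg' (2 * b)
  have hh : (g ^ (2 * b)) ^ 3 ^ a = 1 := by
    rw [← pow_mul, mul_assoc, mul_comm b, ← hN, mul_comm, pow_mul, pow_orderOf_eq_one, one_pow]
  have hK2 : g ^ (2 * b) ∈ K := by
    have h5 : ((g ^ (2 * b) : G) : G ⧸ K) ^ 3 ^ a = 1 := by
      rw [← QuotientGroup.mk_pow, hh, QuotientGroup.mk_one]
    have h6 : orderOf ((g ^ (2 * b) : G) : G ⧸ K) ∣ Nat.card (G ⧸ K) := orderOf_dvd_natCard _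
    rw [← Subgroup.index_eq_card] at h6
    obtain ⟨t, -, ht⟩ := (Nat.dvd_prime_pow Nat.prime_three).1 (orderOf_dvd_of_pow_eq_one h5)
    rcases Nat.eq_zero_or_pos t with h8 | h8
    · rw [h8, pow_zero, orderOf_eq_one_iff] at ht
      exact (QuotientGroup.eq_one_iff _).1 ht
    · exfalso
      apply h3
      rw [ht] at h6
      exact (dvd_pow_self 3 h8.ne').trans h6
  obtain ⟨h₀, hh₀⟩ := f.surjective ⟨g ^ (2 * b), hK2⟩
  have h5 : IsConj x (x ^ 2 ^ (2 * b)) := by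
    refine isConj_iff.2 ⟨h₀, ?_⟩
    apply f.injective
    apply Subtype.ext
    rw [map_mul, map_mul, map_inv, map_pow, hh₀]
    exact h1
  have hmod : ∀ m : ℕ, x ^ m = x ^ (m % 9) := by
    intro m
    conv_lhs => rw [← Nat.div_add_mod m 9]
    rw [pow_add, pow_mul, hx9, one_pow, one_mul]
  have h6 : b % 3 = 1 ∨ b % 3 = 2 := by omega
  have h8 : ∀ k : ℕ, 2 ^ (2 * (3 * k)) % 9 = 1 := by
    intro k
    have h9 : (2 : ℕ) ^ (2 * (3 * k)) = 64 ^ k := by
      rw [show 2 * (3 * k) = 6 * k by ring, pow_mul]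
      norm_num
    rw [h9, Nat.pow_mod]
    norm_num
  rcases h6 with h6 | h6
  · apply h4
    rw [hmod (2 ^ (2 * b))] at h5
    have h9 : 2 ^ (2 * b) % 9 = 4 := by
      rw [← Nat.div_add_mod b 3, h6, mul_add, pow_add, Nat.mul_mod, h8]
      norm_num
    rwa [h9] at h5
  · apply h7
    rw [hmod (2 ^ (2 * b))] at h5
    have h9 : 2 ^ (2 * b) % 9 = 7 := by
      rw [← Nat.div_add_mod b 3, h6, mul_add, pow_add, Nat.mul_mod, h8]
      norm_num
    rwa [h9] at h5

end crit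

section three

variable {F : Type} [Field F] [Fintype F]

open Classical in
theorem mem_of_conj_vec3 {a b c a' b' c' : Fˣ} {h : ∏ j, vec3 a b c j = 1} {h' : ∏ j, vec3 a' b' c' j = 1}
    (hc : IsConj (pr (zD (vec3 a b c) h)) (pr (zD (vec3 a' b' c') h'))) : ∃ l : Fˣ,
      (l * a = a' ∨ l * a = b' ∨ l * a = c') ∧ (l * b = a' ∨ l * b = b' ∨ l * b = c') ∧
      (l * c = a' ∨ l * c = b' ∨ l * c = c') := by
  obtain ⟨l, hl⟩ := conj_vec3 hc
  have key : ∀ m : Fˣ, 1 ≤ (if ((l * a : Fˣ) : F) = m then 1 else 0) + (if ((l * b : Fˣ) : F) = m then 1 else 0) +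
        (if ((l * c : Fˣ) : F) = m then 1 else 0) → m = a' ∨ m = b' ∨ m = c' := by
    intro m hm
    rw [hl m] at hm
    by_cases h1 : (a' : F) = m
    · exact Or.inl (Units.ext h1.symm)
    by_cases h2 : (b' : F) = m
    · exact Or.inr (Or.inl (Units.ext h2.symm))
    by_cases h3 : (c' : F) = m
    · exact Or.inr (Or.inr (Units.ext h3.symm))
    rw [if_neg h1, if_neg h2, if_neg h3] at hm
    omega
  refine ⟨l, key _ ?_, key _ ?_, key _ ?_⟩
  · rw [if_pos rfl]; omega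
  · rw [if_pos (c := ((l * b : Fˣ) : F) = ((l * b : Fˣ) : F)) rfl]; omega
  · rw [if_pos (c := ((l * c : Fˣ) : F) = ((l * c : Fˣ) : F)) rfl]; omega

/-- powers indexed by `ZMod 9` -/
theorem v_inj {η : Fˣ} (hη : orderOf η = 9) {a b : ZMod 9} (h : η ^ a.val = η ^ b.val) : a = b := by
  rw [pow_eq_pow_iff_modEq, hη] at h
  have h1 : a.val = b.val := Nat.ModEq.eq_of_lt_of_lt h (ZMod.val_lt a) (ZMod.val_lt b)
  exact ZMod.val_injective 9 h1

theorem v_add {η : Fˣ} (hη : orderOf η = 9) (a b : ZMod 9) : η ^ (a + b).val = η ^ a.val * η ^ b.val := by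
  rw [ZMod.val_add, ← pow_add]
  have := pow_mod_orderOf η (a.val + b.val)
  rwa [hη] at this

theorem not_conj_nine {η : Fˣ} (hη : orderOf η = 9) {k : ZMod 9} (hk : k = 4 ∨ k = 7)
    {h : ∏ j, vec3 (η ^ (0 : ZMod 9).val) (η ^ (1 : ZMod 9).val) (η ^ (-1 : ZMod 9).val) j = 1}
    {h' : ∏ j, vec3 (η ^ (0 : ZMod 9).val) (η ^ k.val) (η ^ (-k).val) j = 1} :
    ¬ IsConj (pr (zD (vec3 (η ^ (0 : ZMod 9).val) (η ^ (1 : ZMod 9).val) (η ^ (-1 : ZMod 9).val)) h))
      (pr (zD (vec3 (η ^ (0 : ZMod 9).val) (η ^ k.val) (η ^ (-k).val)) h')) := by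
  intro hc
  obtain ⟨l, h0, h1, h2⟩ := mem_of_conj_vec3 hc
  obtain ⟨s, rfl⟩ : ∃ s : ZMod 9, l = η ^ s.val := by
    rw [ZMod.val_zero, pow_zero, mul_one] at h0
    rcases h0 with h0 | h0 | h0
    · exact ⟨0, by rw [h0, ZMod.val_zero, pow_zero]⟩
    · exact ⟨_, h0⟩
    · exact ⟨_, h0⟩
  have key : ∀ e : ZMod 9, (η ^ s.val * η ^ e.val = η ^ (0 : ZMod 9).val ∨ η ^ s.val * η ^ e.val = η ^ k.val ∨
      η ^ s.val * η ^ e.val = η ^ (-k).val) → (s + e = 0 ∨ s + e = k ∨ s + e = -k) := by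
    intro e he
    rw [← v_add hη] at he
    rcases he with he | he | he
    · exact Or.inl (v_inj hη he)
    · exact Or.inr (Or.inl (v_inj hη he))
    · exact Or.inr (Or.inr (v_inj hη he))
  have k0 := key 0 h0
  have k1 := key 1 h1
  have k2 := key (-1) h2
  have hdec : ∀ s : ZMod 9, ∀ k : ZMod 9, (k = 4 ∨ k = 7) → (s + 0 = 0 ∨ s + 0 = k ∨ s + 0 = -k) →
      (s + 1 = 0 ∨ s + 1 = k ∨ s + 1 = -k) → ¬ (s + -1 = 0 ∨ s + -1 = k ∨ s + -1 = -k) := by decide
  exact hdec s k hk k0 k1 k2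

theorem prod_v {η : Fˣ} (hη : orderOf η = 9) (k : ZMod 9) :
    ∏ j, vec3 (η ^ (0 : ZMod 9).val) (η ^ k.val) (η ^ (-k).val) j = 1 := by
  refine prod_vec3 ?_
  rw [← v_add hη, ← v_add hη, zero_add, add_neg_cancel, ZMod.val_zero, pow_zero]

theorem zD_vec3_pow {a b c a' b' c' : Fˣ} (h : ∏ j, vec3 a b c j = 1) (h' : ∏ j, vec3 a' b' c' j = 1) (m : ℕ)
    (ha : a ^ m = a') (hb : b ^ m = b') (hc : c ^ m = c') : zD (vec3 a b c) h ^ m = zD (vec3 a' b' c') h' := by
  apply Subtype.ext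
  have h1 := zD_pow (vec3 a b c) h m
  rw [h1]
  change Matrix.diagonal _ = Matrix.diagonal _
  congr 1
  funext j
  rw [← Units.val_pow_eq_pow_val]
  congr 1
  fin_cases j
  · exact ha
  · exact hb
  · exact hc

theorem pow_v {η : Fˣ} (hη : orderOf η = 9) (a b : ZMod 9) (m : ℕ) (h : a.val * m % 9 = b.val) :
    (η ^ a.val) ^ m = η ^ b.val := by
  rw [← pow_mul, pow_eq_pow_iff_modEq, hη, Nat.ModEq, h, Nat.mod_eq_of_lt (ZMod.val_lt b)]

open Classical in
/-- **`n = 3`, `p = 3`, `9 ∣ q - 1`** -/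
theorem krow_three_three (hq : 9 ∣ Nat.card F - 1) :
    KRow.{u, 0} 3 (Matrix.ProjectiveSpecialLinearGroup (Fin 3) F) := by
  have : Fact (Nat.Prime 3) := ⟨Nat.prime_three⟩
  obtain ⟨η, hη⟩ : ∃ η : Fˣ, orderOf η = 9 := by
    obtain ⟨g, hg⟩ := IsCyclic.exists_generator (α := Fˣ)
    have h1 : orderOf g = Nat.card Fˣ := orderOf_eq_card_of_forall_mem_zpowers hg
    obtain ⟨m, hm⟩ := hq
    rw [Nat.card_units, hm] at h1
    have hm0 : m ≠ 0 := by
      rintro rfl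
      rw [mul_zero] at h1
      exact (orderOf_pos g).ne' h1
    refine ⟨g ^ m, ?_⟩
    rw [orderOf_pow_of_dvd hm0 (by rw [h1]; exact dvd_mul_left _ _), h1, Nat.mul_div_cancel _ (Nat.pos_of_ne_zero hm0)]
  have hw : orderOf (η ^ 3) = 3 := by
    rw [orderOf_pow_of_dvd (by norm_num) (by rw [hη]; norm_num), hη]
  have hη9 : η ^ 9 = 1 := by rw [← hη, pow_orderOf_eq_one]
  have hne : ∀ k : ℕ, ¬ 9 ∣ k → η ^ k ≠ 1 := by
    intro k hk h
    exact hk (by rw [← hη]; exact orderOf_dvd_of_pow_eq_one h)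
  have f01 : (0 : Fin 3) ≠ 1 := by decide
  have f02 : (0 : Fin 3) ≠ 2 := by decide
  have f12 : (1 : Fin 3) ≠ 2 := by decide
  -- the elements
  have hu1 : ∏ j, vec3 (1 : Fˣ) (η ^ 3) (η ^ 6) j = 1 := prod_vec3 (by rw [one_mul, ← pow_add, hη9])
  have hu2 : ∏ j, vec3 η η (η ^ 7) j = 1 := prod_vec3 (by
    rw [← pow_two, ← pow_add, hη9])
  set x := zD (vec3 (η ^ (0 : ZMod 9).val) (η ^ (1 : ZMod 9).val) (η ^ (-1 : ZMod 9).val)) (prod_v hη 1) with hx
  have hx9 : x ^ 9 = 1 := by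
    rw [hx]
    refine zD_pow' _ _ (vec3_forall (P := fun x : Fˣ => x ^ 9 = 1) ?_ ?_ ?_) <;>
      rw [← pow_mul, mul_comm, pow_mul, hη9, one_pow]
  have hx4 : x ^ 4 = zD (vec3 (η ^ (0 : ZMod 9).val) (η ^ (4 : ZMod 9).val) (η ^ (-4 : ZMod 9).val)) (prod_v hη 4) :=
    zD_vec3_pow _ _ 4 (pow_v hη _ _ _ (by decide)) (pow_v hη _ _ _ (by decide)) (pow_v hη _ _ _ (by decide))
  have hx7 : x ^ 7 = zD (vec3 (η ^ (0 : ZMod 9).val) (η ^ (7 : ZMod 9).val) (η ^ (-7 : ZMod 9).val)) (prod_v hη 7) :=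
    zD_vec3_pow _ _ 7 (pow_v hη _ _ _ (by decide)) (pow_v hη _ _ _ (by decide)) (pow_v hη _ _ _ (by decide))
  have h27 : ∀ k : ℕ, (η ^ k) ^ 3 ^ 2 = 1 := by
    intro k
    rw [← pow_mul, mul_comm, pow_mul]; norm_num; rw [hη9, one_pow]
  have hx3 : (pr x) ^ 3 ≠ 1 := by
    intro h
    have h3 : x ^ 3 = zD (vec3 (η ^ (0 : ZMod 9).val) (η ^ (3 : ZMod 9).val) (η ^ (-3 : ZMod 9).val)) (prod_v hη 3) :=
      zD_vec3_pow _ _ 3 (pow_v hη _ _ _ (by decide)) (pow_v hη _ _ _ (by decide)) (pow_v hη _ _ _ (by decide))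
    have h4 := (el_zD (p := 3) (s := 2) (prod_v hη 3) (vec3_forall (P := fun x : Fˣ => x ^ 3 ^ 2 = 1) (h27 _) (h27 _) (h27 _))
      (i := 0) (j := 1) (by
        intro h5
        change η ^ (0 : ZMod 9).val = η ^ (3 : ZMod 9).val at h5
        exact absurd (v_inj hη h5) (by decide))).2
    rw [← h3, map_pow] at h4
    exact h4 h
  have ho : orderOf (pr x) = 9 := by
    have h1 : (pr x) ^ 9 = 1 := by rw [← map_pow, hx9, map_one]
    have h2 : orderOf (pr x) = 3 ^ 2 := orderOf_eq_prime_pow (n := 1) (by rwa [pow_one]) h1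
    rw [h2]; norm_num
  have ho2 : orderOf ((pr x) ^ 2) = 9 := by
    rw [orderOf_pow, ho]
    norm_num
  have hel1 : El 3 (pr (zD (vec3 (1 : Fˣ) (η ^ 3) (η ^ 6)) hu1)) :=
    el_zD (s := 1) hu1 (vec3_forall (P := fun x : Fˣ => x ^ 3 ^ 1 = 1) (one_pow _)
      (by rw [← pow_mul]; norm_num; exact hη9) (by rw [← pow_mul]; norm_num; rw [show 18 = 9 * 2 by norm_num, pow_mul, hη9, one_pow]))
      (i := 0) (j := 1) (fun h => hne 3 (by norm_num) h.symm)
  have hη7 : η ≠ η ^ 7 := by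
    intro h
    apply hne 6 (by norm_num)
    have h1 : η ^ 6 * η = 1 * η := by rw [← pow_succ, ← h, one_mul]
    exact mul_right_cancel h1
  have hel2 : El 3 (pr (zD (vec3 η η (η ^ 7)) hu2)) :=
    el_zD (s := 2) hu2 (vec3_forall (P := fun x : Fˣ => x ^ 3 ^ 2 = 1) (by norm_num; exact hη9)
      (by norm_num; exact hη9) (h27 7)) (i := 0) (j := 2) hη7
  have hc1 : (pr (zD (vec3 (1 : Fˣ) (η ^ 3) (η ^ 6)) hu1)) ^ 3 = 1 := by
    rw [← map_pow]
    have h1 : zD (vec3 (1 : Fˣ) (η ^ 3) (η ^ 6)) hu1 ^ 3 = 1 :=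
      zD_pow' _ _ (vec3_forall (P := fun x : Fˣ => x ^ 3 = 1) (one_pow _) (by rw [← pow_mul]; norm_num; exact hη9)
        (by rw [← pow_mul]; norm_num; rw [show 18 = 9 * 2 by norm_num, pow_mul, hη9, one_pow]))
    rw [h1, map_one]
  have hc2 : (pr (zD (vec3 η η (η ^ 7)) hu2)) ^ 3 = 1 := by
    have hp : ∏ j, vec3 (η ^ 3) (η ^ 3) (η ^ 3) j = 1 := prod_vec3 (by rw [← pow_add, ← pow_add, hη9])
    have h1 : zD (vec3 η η (η ^ 7)) hu2 ^ 3 = zD (vec3 (η ^ 3) (η ^ 3) (η ^ 3)) hp :=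
      zD_vec3_pow _ _ 3 rfl rfl (by rw [← pow_mul, pow_eq_pow_iff_modEq, hη]; decide)
    rw [← map_pow, h1]
    refine (QuotientGroup.eq_one_iff _).2 (Matrix.SpecialLinearGroup.mem_center_iff.2 ⟨((η ^ 3 : Fˣ) : F), ?_, ?_⟩)
    · rw [Fintype.card_fin, ← Units.val_pow_eq_pow_val, ← pow_mul]
      norm_num
      rw [← Units.val_pow_eq_pow_val, hη9, Units.val_one]
    · rw [zD_val, Matrix.scalar_apply]
      congr 1
      funext j
      fin_cases j <;> rfl
  have hX := not_compl_zD (F := F) hw (by norm_num : (3 : ℕ) ≠ 2) f01 f02 f12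
  have hord : ∀ {a b : Matrix.ProjectiveSpecialLinearGroup (Fin 3) F} {G : Type u} [Group G] [Finite G] (K : Subgroup G)
      (f : Matrix.ProjectiveSpecialLinearGroup (Fin 3) F ≃* K), K.Normal → IsConj ((f a : K) : G) ((f b : K) : G) →
      (a ^ 3 = 1 ↔ b ^ 3 = 1) := by
    intro a b G _ _ K f hK hc
    obtain ⟨σ, hσ⟩ := exists_aut hK f hc
    rw [← hσ, ← map_pow]
    exact (map_eq_one_iff σ σ.injective).symm
  have h12 : ∀ σ : Matrix.ProjectiveSpecialLinearGroup (Fin 3) F ≃* Matrix.ProjectiveSpecialLinearGroup (Fin 3) F,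
      σ (pr (zD (vec3 (1 : Fˣ) (η ^ 3) (η ^ 6)) hu1)) ≠ pr (zD (vec3 η η (η ^ 7)) hu2) := by
    intro σ hσ
    have h1 := (ev_iff (by norm_num) σ hσ 2).2 ((ev_zD hu2 2).2 ⟨η, η.ne_zero, by
      rw [count_vec3, if_pos rfl, if_neg fun h => hη7 (Units.ext h.symm)]⟩)
    obtain ⟨t, ht, h2⟩ := (ev_zD hu1 2).1 h1
    rw [count_vec3] at h2
    have e1 : ((1 : Fˣ) : F) ≠ ((η ^ 3 : Fˣ) : F) := fun h => hne 3 (by norm_num) (Units.ext h).symm
    have e2 : ((1 : Fˣ) : F) ≠ ((η ^ 6 : Fˣ) : F) := fun h => hne 6 (by norm_num) (Units.ext h).symm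
    have e3 : ((η ^ 3 : Fˣ) : F) ≠ ((η ^ 6 : Fˣ) : F) := fun h => by
      have h4 : η ^ 3 = η ^ 6 := Units.ext h
      rw [pow_eq_pow_iff_modEq, hη] at h4
      exact absurd h4 (by decide)
    by_cases g1 : ((1 : Fˣ) : F) = t
    · rw [if_pos g1, if_neg (fun g => e1 (g1.trans g.symm)), if_neg (fun g => e2 (g1.trans g.symm))] at h2
      omega
    · rw [if_neg g1] at h2
      by_cases g2 : ((η ^ 3 : Fˣ) : F) = t
      · rw [if_pos g2, if_neg (fun g => e3 (g2.trans g.symm))] at h2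
        omega
      · rw [if_neg g2] at h2
        split_ifs at h2 <;> omega
  have hsq : ∀ {G : Type u} [Group G] [Finite G] (K : Subgroup G)
      (f : Matrix.ProjectiveSpecialLinearGroup (Fin 3) F ≃* K), K.Normal → ¬ 3 ∣ K.index →
      ¬ IsConj ((f (pr x) : K) : G) ((f (pr x ^ 2) : K) : G) := by
    intro G _ _ K f hK h3
    refine not_conj_sq K f hK h3 (by rw [← map_pow, hx9, map_one]) ?_ ?_
    · rw [← map_pow, hx4]
      exact not_conj_nine hη (Or.inl rfl)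
    · rw [← map_pow, hx7]
      exact not_conj_nine hη (Or.inr rfl)
  refine krow_of_fin' (m := 4) hX ![pr (zD (vec3 (1 : Fˣ) (η ^ 3) (η ^ 6)) hu1), pr (zD (vec3 η η (η ^ 7)) hu2), pr x, pr x ^ 2]
    ![1, 2, 1, 1] ?_ ?_ ?_ (by decide)
  · intro i
    fin_cases i
    · exact hel1
    · exact hel2
    · exact ⟨⟨2, by rw [show (3 : ℕ) ^ 2 = 9 by norm_num]; exact ho⟩, fun h => hx3 (by
        have h1 : pr x = 1 := h
        rw [h1, one_pow])⟩
    · refine ⟨⟨2, by rw [show (3 : ℕ) ^ 2 = 9 by norm_num]; exact ho2⟩, fun h => ?_⟩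
      have h1 : pr x ^ 2 = 1 := h
      rw [h1, orderOf_one] at ho2
      norm_num at ho2
  · have hx6 : ¬ (pr x ^ 2) ^ 3 = 1 := by
      intro h
      have h1 := orderOf_dvd_of_pow_eq_one h
      rw [ho2] at h1
      norm_num at h1
    intro i j hij G _ _ K f hK h3 hc
    fin_cases i <;> fin_cases j
    · exact hij rfl
    · obtain ⟨σ, hσ⟩ := exists_aut hK f hc
      exact h12 σ hσ
    · exact hx3 ((hord K f hK hc).1 hc1)
    · exact hx6 ((hord K f hK hc).1 hc1)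
    · obtain ⟨σ, hσ⟩ := exists_aut hK f hc.symm
      exact h12 σ hσ
    · exact hij rfl
    · exact hx3 ((hord K f hK hc).1 hc2)
    · exact hx6 ((hord K f hK hc).1 hc2)
    · exact hx3 ((hord K f hK hc).2 hc1)
    · exact hx3 ((hord K f hK hc).2 hc2)
    · exact hij rfl
    · exact hsq K f hK h3 hc
    · exact hx6 ((hord K f hK hc).2 hc1)
    · exact hx6 ((hord K f hK hc).2 hc2)
    · exact hsq K f hK h3 hc.symm
    · exact hij rfl
  · intro i
    fin_cases i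
    · exact wtGe_one _
    · exact wt_two_zD hw (by norm_num) hu2 f01 f02 f12 rfl
    · exact wtGe_one _
    · exact wtGe_one _

end three

end Cfsg.Agent.H734.K6
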