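import Cfsg.Agent.H734.KB.SLBlock
import Cfsg.Agent.H734.K6.PslInv

/-!
# S4876: the space `Lᵃ × Fʳ` (helper734)

`dgH` : the diagonal maps `(v, y) ↦ (k v, y)`; `swE` : exchange of two coordinates; `frE` : a field automorphism on one
coordinate; `exists_fix` : correction of the determinant; `card_fix` : the number of fixed vectors.
-/

set_option autoImplicit false
set_option linter.unusedSectionVars false

open Cfsg Module

namespace Cfsg.Agent.H734.K6

open Cfsg.Agent.H734.KB

section

variable (F : Type) [Field F] [Finite F] (L : Type) [Field L] [Finite L] [Algebra F L] (a r : ℕ)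

/-- the space -/
abbrev W : Type := (Fin a → L) × (Fin r → F)

variable {a r}

/-- maps of the coordinates -/
noncomputable def piH : (Fin a → (L ≃ₗ[F] L)) →* (W F L a r ≃ₗ[F] W F L a r) where
  toFun π := (LinearEquiv.piCongrRight π).prodCongr (LinearEquiv.refl F _)
  map_one' := rfl
  map_mul' _ _ := rfl

variable {F L}

theorem piH_apply (π : Fin a → (L ≃ₗ[F] L)) (v : W F L a r) : piH F L π v = (fun j => π j (v.1 j), v.2) := rfl

theorem det_piH (π : Fin a → (L ≃ₗ[F] L)) :
    LinearEquiv.det (piH F L π : W F L a r ≃ₗ[F] W F L a r) = ∏ j, LinearEquiv.det (π j) := by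
  apply Units.ext
  rw [LinearEquiv.coe_det, Units.coe_prod]
  have h : ((piH F L π : W F L a r ≃ₗ[F] W F L a r) : W F L a r →ₗ[F] W F L a r) =
      LinearMap.prodMap (LinearMap.pi fun j => ((π j : L →ₗ[F] L)).comp (LinearMap.proj j)) LinearMap.id := rfl
  rw [h, LinearMap.det_prodMap, LinearMap.det_pi, LinearMap.det_id, mul_one]
  exact Finset.prod_congr rfl fun j _ => (LinearEquiv.coe_det _).symm

variable (F L)

/-- diagonal maps -/
noncomputable def dgH : (Fin a → Lˣ) →* (W F L a r ≃ₗ[F] W F L a r) :=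
  (piH F L).comp (MonoidHom.pi fun j => (mulE F L).comp (Pi.evalMonoidHom (fun _ : Fin a => Lˣ) j))

variable {F L}

theorem dgH_apply (k : Fin a → Lˣ) (v : W F L a r) : dgH F L k v = (fun j => (k j : L) * v.1 j, v.2) := rfl

theorem det_dgH (k : Fin a → Lˣ) :
    ((LinearEquiv.det (dgH F L k : W F L a r ≃ₗ[F] W F L a r) : Fˣ) : F) = ∏ j, Algebra.norm F (k j : L) := by
  have h : (dgH F L k : W F L a r ≃ₗ[F] W F L a r) = piH F L fun j => mulE F L (k j) := rfl
  rw [h, det_piH, Units.coe_prod]
  exact Finset.prod_congr rfl fun j _ => det_mulE _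

theorem dgH_injective : Function.Injective (dgH F L : (Fin a → Lˣ) →* (W F L a r ≃ₗ[F] W F L a r)) := by
  intro k k' h
  funext j
  have h1 := congrArg (fun f : W F L a r ≃ₗ[F] W F L a r => (f (fun _ => 1, 0)).1 j) h
  have h2 : (k j : L) * 1 = (k' j : L) * 1 := h1
  rw [mul_one, mul_one] at h2
  exact Units.ext h2

/-- exchange of two coordinates -/
noncomputable def swE (i j : Fin a) : W F L a r ≃ₗ[F] W F L a r :=
  (LinearEquiv.funCongrLeft F L (Equiv.swap i j)).prodCongr (LinearEquiv.refl F _)

theorem swE_apply (i j : Fin a) (v : W F L a r) : swE i j v = (fun l => v.1 (Equiv.swap i j l), v.2) := rfl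

theorem swE_dgH (i j : Fin a) (k : Fin a → Lˣ) :
    (swE i j : W F L a r ≃ₗ[F] W F L a r) * dgH F L k = dgH F L (k ∘ Equiv.swap i j) * swE i j := by
  refine LinearEquiv.ext fun v => ?_
  rfl

/-- a field automorphism on one coordinate -/
noncomputable def frE (j : Fin a) (σ : L ≃ₐ[F] L) : W F L a r ≃ₗ[F] W F L a r :=
  piH F L (Function.update 1 j σ.toLinearEquiv)

theorem frE_dgH (j : Fin a) (σ : L ≃ₐ[F] L) (k : Fin a → Lˣ) :
    (frE j σ : W F L a r ≃ₗ[F] W F L a r) * dgH F L k =
      dgH F L (Function.update k j (Units.map (σ : L →* L) (k j))) * frE j σ := by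
  refine LinearEquiv.ext fun v => Prod.ext (funext fun l => ?_) rfl
  change (Function.update (1 : Fin a → (L ≃ₗ[F] L)) j σ.toLinearEquiv l) ((k l : L) * v.1 l) =
    ((Function.update k j (Units.map (σ : L →* L) (k j)) l : Lˣ) : L) *
      (Function.update (1 : Fin a → (L ≃ₗ[F] L)) j σ.toLinearEquiv l) (v.1 l)
  by_cases hl : l = j
  · subst hl
    rw [Function.update_self, Function.update_self]
    exact map_mul σ _ _
  · rw [Function.update_of_ne hl, Function.update_of_ne hl]
    rfl

/-- correction of the determinant -/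
theorem exists_fix [FiniteDimensional F L] (g : W F L a r ≃ₗ[F] W F L a r) (i : Fin a) :
    ∃ l : Lˣ, LinearEquiv.det (g * dgH F L (Pi.mulSingle i l)) = 1 := by
  classical
  obtain ⟨l, hl⟩ := FiniteField.unitsMap_norm_surjective F L (LinearEquiv.det g)⁻¹
  refine ⟨l, ?_⟩
  have h1 : LinearEquiv.det (dgH F L (Pi.mulSingle i l) : W F L a r ≃ₗ[F] W F L a r) = (LinearEquiv.det g)⁻¹ := by
    rw [← hl]
    apply Units.ext
    rw [det_dgH, Finset.prod_eq_single i]
    · rw [Pi.mulSingle_eq_same]
      rfl
    · intro j _ hj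
      rw [Pi.mulSingle_eq_of_ne hj, Units.val_one, map_one]
    · intro h
      exact absurd (Finset.mem_univ i) h
  rw [map_mul, h1, mul_inv_cancel]

/-- the number of fixed vectors -/
theorem card_fix (k : Fin a → Lˣ) :
    Nat.card {v : W F L a r // dgH F L k v = v} =
      Nat.card L ^ (Nat.card {j : Fin a // k j = 1}) * Nat.card (Fin r → F) := by
  classical
  have e : {v : W F L a r // dgH F L k v = v} ≃ ((j : Fin a) → {x : L // (k j : L) * x = x}) × (Fin r → F) :=
    { toFun := fun v => (fun j => ⟨v.1.1 j, congrFun (congrArg Prod.fst v.2) j⟩, v.1.2)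
      invFun := fun w => ⟨(fun j => (w.1 j).1, w.2), Prod.ext (funext fun j => (w.1 j).2) rfl⟩
      left_inv := fun v => rfl
      right_inv := fun w => rfl }
  rw [Nat.card_congr e, Nat.card_prod, Nat.card_pi]
  congr 1
  rw [Nat.card_eq_fintype_card (α := {j : Fin a // k j = 1}), Fintype.card_subtype, Finset.card_filter,
    ← Finset.prod_pow_eq_pow_sum]
  refine Finset.prod_congr rfl fun j _ => ?_
  split_ifs with h
  · rw [pow_one, h]
    exact Nat.card_congr (Equiv.subtypeUnivEquiv fun x => by rw [Units.val_one, one_mul])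
  · rw [pow_zero, Nat.card_eq_one_iff_unique]
    refine ⟨⟨fun x y => Subtype.ext ?_⟩, ⟨⟨0, mul_zero _⟩⟩⟩
    have key : ∀ z : {x : L // (k j : L) * x = x}, z.1 = 0 := by
      intro z
      by_contra hz
      apply h
      have h1 := z.2
      have h2 : (k j : L) * z.1 = 1 * z.1 := by rw [h1, one_mul]
      exact Units.ext (mul_right_cancel₀ hz h2)
    rw [key x, key y]

end

end Cfsg.Agent.H734.K6
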